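import Cfsg.Agent.Lib.Shult.Twisted
import Cfsg.Agent.S3736

/-!
# Prime order operators without fixed points on faithful modules

`rho_eq_one_of_fpf` : a Frobenius group whose complement of prime order has no fixed vector acts
with the kernel trivial (coprime characteristic).
`fixedPoint_cases` : an operator group of prime order `r` faithful on a `q`-group `Q` without fixed
point on a faithful module forces `q = 2`, `r = 2 ^ m + 1` and `Q` nonabelian.
-/

set_option autoImplicit false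
set_option linter.unusedSectionVars false

namespace Cfsg.Agent.Lib.Shult

open Module Subgroup
open scoped TensorProduct commutatorElement

section Frobenius

variable {Q : Type*} [Group Q] [Finite Q] {R : Type*} [Ring R]

theorem rho_eq_one_of_fpf (ρ : Q →* R) (σ : R) {r : ℕ} (hr : r.Prime) (hσr : σ ^ r = 1)
    (hsum : ∑ j ∈ Finset.range r, σ ^ j = 0) (α : MulAut Q)
    (hcompat : ∀ x, σ * ρ x = ρ (α x) * σ) (hαr : α ^ r = 1) (hfpf : ∀ x, α x = x → x = 1)
    (hQ : IsUnit (Nat.card Q : R)) : ∀ x, ρ x = 1 := by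
  classical
  have := Fintype.ofFinite Q
  have hinvmul : ∀ y, ρ y⁻¹ * ρ y = 1 := fun y => by rw [← map_mul, inv_mul_cancel, map_one]
  have hfix : ∀ (j : ℕ) (x : Q), (α ^ j) x = x → ∀ i, ((α ^ j) ^ i) x = x := fun j x hx i => by
    induction i with
    | zero => simp
    | succ i ih => rw [pow_succ, MulAut.mul_apply, hx, ih]
  have hpow : ∀ (j : ℕ) (y : Q), σ ^ j * ρ y = ρ ((α ^ j) y) * σ ^ j := by
    intro j
    induction j with
    | zero => intro y; simp
    | succ j ih =>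
        intro y
        rw [pow_succ, mul_assoc, hcompat, ← mul_assoc, ih, pow_succ α, MulAut.mul_apply, mul_assoc]
  let P : R := ∑ x : Q, ρ x
  have hj : ∀ j ∈ Finset.range r,
      ∑ y : Q, ρ y⁻¹ * σ ^ j * ρ y = if j = 0 then (Nat.card Q : R) else P * σ ^ j := by
    intro j hj
    split_ifs with h0
    · subst h0
      simp only [pow_zero, mul_one, hinvmul]
      simp [Nat.card_eq_fintype_card]
    · have e : ∀ y, ρ y⁻¹ * σ ^ j * ρ y = ρ (y⁻¹ * (α ^ j) y) * σ ^ j := fun y => by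
        rw [mul_assoc, hpow, ← mul_assoc, map_mul]
      simp only [e, ← Finset.sum_mul]
      congr 1
      refine Fintype.sum_bijective _ (Finite.injective_iff_bijective.1 ?_) _ _ fun y => rfl
      intro y y' h
      have h1 : (α ^ j) (y' * y⁻¹) = y' * y⁻¹ := by
        have h' : y⁻¹ * (α ^ j) y = y'⁻¹ * (α ^ j) y' := h
        rw [map_mul, map_inv]
        calc (α ^ j) y' * ((α ^ j) y)⁻¹
            = y' * (y'⁻¹ * (α ^ j) y') * ((α ^ j) y)⁻¹ := by group
          _ = y' * y⁻¹ := by rw [← h']; group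
      obtain ⟨m, -, hm⟩ := Nat.exists_mul_mod_eq_one_of_coprime
        ((hr.coprime_iff_not_dvd.2 fun hd => h0 (Nat.eq_zero_of_dvd_of_lt hd
          (Finset.mem_range.1 hj))).symm) hr.one_lt
      have h2 : α (y' * y⁻¹) = y' * y⁻¹ := by
        have h3 := hfix j _ h1 m
        rwa [← pow_mul, ← Nat.div_add_mod (j * m) r, hm, pow_succ, pow_mul, hαr, one_pow,
          one_mul] at h3
      exact (mul_inv_eq_one.1 (hfpf _ h2)).symm
  have h0 : ∑ j ∈ Finset.range r, ∑ y : Q, ρ y⁻¹ * σ ^ j * ρ y = 0 := by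
    rw [Finset.sum_comm]
    refine Finset.sum_eq_zero fun y _ => ?_
    rw [← Finset.sum_mul, ← Finset.mul_sum, hsum, mul_zero, zero_mul]
  rw [Finset.sum_congr rfl hj] at h0
  obtain ⟨r', hr'⟩ : ∃ r', r = r' + 1 := ⟨r - 1, by have := hr.pos; omega⟩
  rw [hr', Finset.sum_range_succ'] at h0 hsum
  simp only [Nat.add_eq_zero_iff, one_ne_zero, and_false, if_false, if_true, ← Finset.mul_sum,
    pow_zero] at h0 hsum
  rw [eq_neg_of_add_eq_zero_left hsum, mul_neg, mul_one, neg_add_eq_sub, sub_eq_zero] at h0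
  intro x
  have h1 : ρ x * P = P := by
    simp only [P, Finset.mul_sum, ← map_mul]
    exact Fintype.sum_bijective _ (Group.mulLeft_bijective x) _ _ fun y => rfl
  rw [← h0] at h1
  exact hQ.mul_eq_right.1 h1

theorem sum_pow_eq_zero {k : Type*} [Field k] {W : Type*} [AddCommGroup W] [Module k W]
    {σ : Module.End k W} {r : ℕ} (hσr : σ ^ r = 1) (hσ : ∀ v, σ v = v → v = 0) :
    ∑ j ∈ Finset.range r, σ ^ j = 0 := by
  have h : σ * ∑ j ∈ Finset.range r, σ ^ j = ∑ j ∈ Finset.range r, σ ^ j := by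
    have h2 := Finset.sum_range_succ' (fun j => σ ^ j) r
    rw [Finset.sum_range_succ, hσr, pow_zero] at h2
    simp only [Finset.mul_sum, ← pow_succ']
    exact (add_right_cancel h2).symm
  exact LinearMap.ext fun v => hσ _ (LinearMap.congr_fun h v)

end Frobenius

section Weight

variable {k : Type*} [Field k] [IsAlgClosed k] {Q : Type*} [Group Q] [Finite Q]
  {W : Type*} [AddCommGroup W] [Module k W] [FiniteDimensional k W]

theorem exists_eigen_ne_one {f : Module.End k W} {n : ℕ} (hn : (n : k) ≠ 0) (hf : f ^ n = 1)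
    (hf1 : f ≠ 1) : ∃ c : k, c ≠ 1 ∧ f.eigenspace c ≠ ⊥ := by
  by_contra h
  push Not at h
  have hss : f.IsSemisimple := by
    refine Module.End.isSemisimple_of_squarefree_aeval_eq_zero
      (p := (Polynomial.X ^ n - 1 : Polynomial k)) ?_ ?_
    · exact (Polynomial.X_pow_sub_one_separable_iff.mpr hn).squarefree
    · simp [hf]
  have h1 : f.eigenspace 1 = ⊤ := by
    refine top_le_iff.1 (hss.iSup_eigenspace_eq_top ▸ iSup_le fun μ => ?_)
    rcases eq_or_ne μ 1 with rfl | hμ
    · exact le_rfl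
    · rw [h μ hμ]; exact bot_le
  refine hf1 (LinearMap.ext fun v => ?_)
  simpa using Module.End.mem_eigenspace_iff.1 (h1.ge (Submodule.mem_top (x := v)))

variable {Z : Subgroup Q}

/-- Choose a weight of the centre and apply the core lemma. -/
theorem index_cases (ρ : Q →* Module.End k W) {r : ℕ} (hr : r.Prime)
    (σ : Module.End k W) (hσr : σ ^ r = 1) (hσ : ∀ v, σ v = v → v = 0)
    (α : MulAut Q) (hcompat : ∀ x, σ * ρ x = ρ (α x) * σ) (hαr : α ^ r = 1)
    (hZc : Z ≤ center Q) (hcomm : ∀ x y : Q, ⁅x, y⁆ ∈ Z)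
    (hαZ : ∀ z ∈ Z, α z = z) (hfpf : ∀ x, x⁻¹ * α x ∈ Z → x ∈ Z)
    (z : Q) (hz : z ∈ Z) (hρz : ρ z ≠ 1)
    (hrad : ∀ N : Subgroup Q, (∀ n ∈ N, α n ∈ N) → z ∉ N → ∀ x, x ∉ Z → ∃ y, ⁅x, y⁆ ∉ N)
    (hrk : (r : k) ≠ 0) (hQk : (Nat.card Q : k) ≠ 0) :
    Z.index = 1 ∨ Z.index = (r - 1) ^ 2 := by
  classical
  obtain ⟨c, hc1, hc⟩ := exists_eigen_ne_one hQk
    (by rw [← map_pow, pow_card_eq_one', map_one]) hρz
  let S : Set (Submodule k W) := {U | U ≠ ⊥ ∧ U ≤ (ρ z).eigenspace c ∧
    (∀ x, ∀ u ∈ U, ρ x u ∈ U) ∧ ∀ u ∈ U, σ u ∈ U}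
  have hΛ : (ρ z).eigenspace c ∈ S := by
    refine ⟨hc, le_rfl, fun x u hu => ?_, fun u hu => ?_⟩
    · rw [Module.End.mem_eigenspace_iff] at hu ⊢
      rw [← Module.End.mul_apply, ← map_mul, ← Subgroup.mem_center_iff.1 (hZc hz) x, map_mul,
        Module.End.mul_apply, hu, map_smul]
    · rw [Module.End.mem_eigenspace_iff] at hu ⊢
      have e := LinearMap.congr_fun (hcompat z) u
      rw [hαZ z hz, Module.End.mul_apply, Module.End.mul_apply, hu, map_smul] at e
      exact e.symm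
  obtain ⟨U, ⟨hU0, hUc, hUρ, hUσ⟩, hmin⟩ := wellFounded_lt.has_min S ⟨_, hΛ⟩
  have : Nontrivial U := Submodule.nontrivial_iff_ne_bot.2 hU0
  let ρ₂ := subRep ρ U hUρ
  let σ₂ : Module.End k U := σ.restrict hUσ
  have hscal : ∀ z' ∈ Z, ∃ a : k, ρ₂ z' = a • 1 := by
    intro z' hz'
    obtain ⟨a, ha⟩ := (ρ₂ z').exists_eigenvalue
    refine ⟨a, ?_⟩
    let U' : Submodule k W := ((ρ₂ z').eigenspace a).map U.subtype
    have hU'le : U' ≤ U := Submodule.map_subtype_le _ _
    have hU'0 : U' ≠ ⊥ := fun h => Module.End.hasEigenvalue_iff.1 ha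
      (Submodule.map_injective_of_injective U.injective_subtype (h.trans (Submodule.map_bot _).symm))
    have hU' : U' ∈ S := by
      refine ⟨hU'0, hU'le.trans hUc, ?_, ?_⟩
      · rintro x _ ⟨u, hu, rfl⟩
        refine ⟨ρ₂ x u, ?_, rfl⟩
        rw [SetLike.mem_coe, Module.End.mem_eigenspace_iff] at hu ⊢
        rw [← Module.End.mul_apply, ← map_mul, ← Subgroup.mem_center_iff.1 (hZc hz') x, map_mul,
          Module.End.mul_apply, hu, map_smul]
      · rintro _ ⟨u, hu, rfl⟩
        refine ⟨σ₂ u, ?_, rfl⟩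
        rw [SetLike.mem_coe, Module.End.mem_eigenspace_iff] at hu ⊢
        refine Subtype.ext ?_
        have e := LinearMap.congr_fun (hcompat z') (u : W)
        rw [hαZ z' hz', Module.End.mul_apply, Module.End.mul_apply] at e
        have hu' : ρ z' (u : W) = a • (u : W) := congrArg Subtype.val hu
        change ρ z' (σ (u : W)) = a • σ (u : W)
        rw [← e, hu', map_smul]
    have hU'eq : U' = U := eq_of_le_of_not_lt hU'le (hmin U' hU')
    have htop : (ρ₂ z').eigenspace a = ⊤ :=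
      Submodule.map_injective_of_injective U.injective_subtype
        (hU'eq.trans (Submodule.map_subtype_top _).symm)
    refine LinearMap.ext fun u => ?_
    simpa using Module.End.mem_eigenspace_iff.1 (htop.ge (Submodule.mem_top (x := u)))
  have hzker : z ∉ ρ₂.ker := by
    intro h
    obtain ⟨u, hu⟩ := exists_ne (0 : U)
    have h1 : ρ z (u : W) = c • (u : W) := Module.End.mem_eigenspace_iff.1 (hUc u.2)
    have h2 : ρ z (u : W) = u := congrArg Subtype.val (LinearMap.congr_fun (MonoidHom.mem_ker.1 h) u)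
    have h3 : (c - 1) • (u : W) = 0 := by rw [sub_smul, ← h1, h2, one_smul, sub_self]
    exact hu (Subtype.ext ((smul_eq_zero.1 h3).resolve_left (sub_ne_zero.2 hc1)))
  have hker : ∀ n ∈ ρ₂.ker, α n ∈ ρ₂.ker := by
    intro n hn
    obtain ⟨r', hr'⟩ : ∃ r', r = r' + 1 := ⟨r - 1, by have := hr.pos; omega⟩
    refine LinearMap.ext fun u => Subtype.ext ?_
    have hσ₂ : σ ((σ ^ r') (u : W)) = u := by
      rw [← Module.End.mul_apply, ← pow_succ', ← hr', hσr, Module.End.one_apply]
    have hmem : (σ ^ r') (u : W) ∈ U := by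
      have : ∀ j : ℕ, (σ ^ j) (u : W) ∈ U := fun j => by
        induction j with
        | zero => simp
        | succ j ih => rw [pow_succ', Module.End.mul_apply]; exact hUσ _ ih
      exact this r'
    have e := LinearMap.congr_fun (hcompat n) ((σ ^ r') (u : W))
    rw [Module.End.mul_apply, Module.End.mul_apply, hσ₂] at e
    change ρ (α n) (u : W) = u
    rw [← e]
    have hn' : ρ n ((σ ^ r') (u : W)) = (σ ^ r') (u : W) :=
      congrArg Subtype.val (LinearMap.congr_fun (MonoidHom.mem_ker.1 hn) ⟨_, hmem⟩)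
    rw [hn', hσ₂]
  have htw : IsTwisted Z ρ₂ := by
    refine ⟨hscal, fun x y => ?_, fun x hx => ?_⟩
    · obtain ⟨a, ha⟩ := hscal _ (hcomm y x)
      refine ⟨a, ?_⟩
      rw [show ρ₂ y * ρ₂ x = ρ₂ ⁅y, x⁆ * (ρ₂ x * ρ₂ y) by
        rw [← map_mul, ← map_mul, ← map_mul]; congr 1; rw [commutatorElement_def]; group,
        ha, smul_mul_assoc, one_mul]
    · obtain ⟨y, hy⟩ := hrad _ hker hzker x hx
      refine ⟨y, fun e => hy (MonoidHom.mem_ker.2 ?_)⟩
      calc ρ₂ ⁅x, y⁆ = ρ₂ x * ρ₂ y * (ρ₂ x⁻¹ * ρ₂ y⁻¹) := by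
            rw [commutatorElement_def, map_mul, map_mul, map_mul, mul_assoc]
        _ = ρ₂ (y * x * (x⁻¹ * y⁻¹)) := by rw [← e]; simp only [map_mul]
        _ = 1 := by rw [show y * x * (x⁻¹ * y⁻¹) = 1 by group, map_one]
  have hσ₂r : σ₂ ^ r = 1 := by
    refine LinearMap.ext fun u => Subtype.ext ?_
    have h1 : ∀ (j : ℕ) (u : U), ((σ₂ ^ j) u : W) = (σ ^ j) (u : W) := fun j => by
      induction j with
      | zero => simp
      | succ j ih =>
          intro u
          rw [pow_succ, pow_succ, Module.End.mul_apply, Module.End.mul_apply, ih]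
          rfl
    rw [h1, hσr]; rfl
  refine index_eq_one_or htw hr σ₂ hσ₂r (fun v hv => Subtype.ext (hσ _ (congrArg Subtype.val hv)))
    α (fun x => LinearMap.ext fun u => Subtype.ext (LinearMap.congr_fun (hcompat x) (u : W))) hαr
    hαZ hfpf hrk ?_
  intro h0
  apply hQk
  rw [← Z.index_mul_card, Nat.cast_mul, h0, zero_mul]

/-- The end of the count. -/
theorem prime_power_eq_sq {q r e : ℕ} (hq : q.Prime) (hr : r.Prime) (he : 0 < e)
    (h : q ^ e = (r - 1) ^ 2) : q = 2 ∧ ∃ m : ℕ, r = 2 ^ m + 1 ∧ e = 2 * m := by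
  obtain ⟨m, -, hm⟩ := (Nat.dvd_prime_pow hq).1 (h ▸ dvd_pow_self (r - 1) two_ne_zero : r - 1 ∣ q ^ e)
  have he2 : e = 2 * m := by
    rw [hm, ← pow_mul] at h
    rw [Nat.pow_right_injective hq.two_le h, mul_comm]
  have hq2 : q = 2 := by
    rcases hr.eq_two_or_odd with h2 | h2
    · subst h2
      have : q ^ e = 1 := by simpa using h
      rw [Nat.pow_eq_one] at this
      rcases this with h1 | h1
      · exact absurd h1 hq.one_lt.ne'
      · omega
    · have h3 : 2 ∣ q ^ e := by rw [h]; exact dvd_pow (by omega) two_ne_zero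
      exact ((Nat.prime_dvd_prime_iff_eq Nat.prime_two hq).1 (Nat.prime_two.dvd_of_dvd_pow h3)).symm
  refine ⟨hq2, m, ?_, he2⟩
  subst hq2
  have := hr.pos
  omega

end Weight

section Ambient

universe u

variable {G : Type u} [Group G] [Finite G]

open Cfsg.Agent.S3736

/-- Extension of scalars of a module to the algebraic closure. -/
theorem exists_extension {p : ℕ} [Fact p.Prime] {N : Type*} [Group N] {M : Type u} [AddCommGroup M]
    [Module (ZMod p) M] [Finite M] (φ : N →* Module.End (ZMod p) M) :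
    ∃ (W : Type u) (_ : AddCommGroup W) (_ : Module (AlgebraicClosure (ZMod p)) W)
      (_ : FiniteDimensional (AlgebraicClosure (ZMod p)) W)
      (ψ : N →* Module.End (AlgebraicClosure (ZMod p)) W),
      (∀ n, ψ n = 1 → ∀ x, φ n x = x) ∧
      ∀ n, (∀ x, φ n x = x → x = 0) → ∀ w, ψ n w = w → w = 0 := by
  let k := AlgebraicClosure (ZMod p)
  refine ⟨k ⊗[ZMod p] M, inferInstance, inferInstance, inferInstance,
    (Module.End.baseChangeHom (ZMod p) k M).toMonoidHom.comp φ, ?_, ?_⟩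
  · intro n hn x
    have h2 := LinearMap.congr_fun hn ((1 : k) ⊗ₜ[ZMod p] x)
    have h3 : (1 : k) ⊗ₜ[ZMod p] (φ n x) = (1 : k) ⊗ₜ[ZMod p] x := h2
    have hinj := (Module.Flat.rTensor_preserves_injective_linearMap (M := M)
      (Algebra.linearMap (ZMod p) k) (algebraMap (ZMod p) k).injective).comp
      (TensorProduct.lid (ZMod p) M).symm.injective
    refine hinj ?_
    simpa using h3
  · intro n hn w hw
    have hinj : Function.Injective (φ n - 1 : Module.End (ZMod p) M) := by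
      rw [← LinearMap.ker_eq_bot, LinearMap.ker_eq_bot']
      intro x hx
      rw [LinearMap.sub_apply, Module.End.one_apply, sub_eq_zero] at hx
      exact hn x hx
    have h1 := Module.Flat.lTensor_preserves_injective_linearMap (M := k) _ hinj
    refine h1 (?_ : _ = LinearMap.lTensor k (φ n - 1) 0)
    rw [map_zero, LinearMap.lTensor_sub, LinearMap.sub_apply, sub_eq_zero, Module.End.one_eq_id,
      LinearMap.lTensor_id, LinearMap.id_apply]
    exact hw

theorem exists_extension' {p : ℕ} [Fact p.Prime] {N : Type*} [Group N] {M : Type u} [AddCommGroup M]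
    [Module (ZMod p) M] [Finite M] (T : N → M →+ M) (h1 : ∀ x, T 1 x = x)
    (h2 : ∀ n m x, T (n * m) x = T n (T m x)) :
    ∃ (W : Type u) (_ : AddCommGroup W) (_ : Module (AlgebraicClosure (ZMod p)) W)
      (_ : FiniteDimensional (AlgebraicClosure (ZMod p)) W)
      (ψ : N →* Module.End (AlgebraicClosure (ZMod p)) W),
      (∀ n, ψ n = 1 → ∀ x, T n x = x) ∧
      ∀ n, (∀ x, T n x = x → x = 0) → ∀ w, ψ n w = w → w = 0 := by
  let L : N → Module.End (ZMod p) M := fun n => (T n).toZModLinearMap p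
  have hL : ∀ n x, L n x = T n x := fun n x => by simp [L]
  have e1 : L 1 = 1 := LinearMap.ext fun x => by rw [hL, h1, Module.End.one_apply]
  have e2 : ∀ n m, L (n * m) = L n * L m := fun n m => LinearMap.ext fun x => by
    rw [Module.End.mul_apply, hL, hL, hL, h2]
  obtain ⟨W, i1, i2, i3, ψ, g1, g2⟩ := exists_extension (⟨⟨L, e1⟩, e2⟩ : N →* Module.End (ZMod p) M)
  refine ⟨W, i1, i2, i3, ψ, fun n hn x => ?_, fun n hn => g2 n fun x hx => hn x ?_⟩
  · exact (hL n x).symm.trans (g1 n hn x)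
  · exact (hL n x).symm.trans hx

/-- A group of automorphisms of an elementary abelian `p`-group, linearly. -/
theorem exists_linear {p : ℕ} [Fact p.Prime] {N : Type*} [Group N] {A : Type u} [CommGroup A]
    [Finite A] (hA : ∀ a : A, a ^ p = 1) (f : N →* MulAut A) :
    ∃ (W : Type u) (_ : AddCommGroup W) (_ : Module (AlgebraicClosure (ZMod p)) W)
      (_ : FiniteDimensional (AlgebraicClosure (ZMod p)) W)
      (ψ : N →* Module.End (AlgebraicClosure (ZMod p)) W),
      (∀ n, ψ n = 1 → ∀ a, f n a = a) ∧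
      ∀ n, (∀ a, f n a = a → a = 1) → ∀ w, ψ n w = w → w = 0 := by
  obtain ⟨W, i1, i2, i3, ψ, g1, g2⟩ := @exists_extension' p _ N _ (Additive A) _
    (AddCommGroup.zmodModule fun x => congrArg Additive.ofMul (hA x.toMul)) _
    (fun n => MonoidHom.toAdditive (f n).toMonoidHom)
    (fun x => by
      show Additive.ofMul (f 1 x.toMul) = x
      rw [map_one]; rfl)
    (fun n m x => by
      show Additive.ofMul (f (n * m) x.toMul) = Additive.ofMul (f n (f m x.toMul))
      rw [map_mul]; rfl)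
  refine ⟨W, i1, i2, i3, ψ, fun n hn a => ?_, fun n hn => g2 n fun x hx => ?_⟩
  · exact congrArg Additive.toMul (g1 n hn (Additive.ofMul a))
  · exact congrArg Additive.ofMul (hn x.toMul (congrArg Additive.toMul hx))

/-- The conjugation module, extended to the algebraic closure. -/
theorem exists_module {p : ℕ} [Fact p.Prime] {V : Subgroup G} (hV : Cfsg.IsElementaryAbelian p V) :
    ∃ (W : Type u) (_ : AddCommGroup W) (_ : Module (AlgebraicClosure (ZMod p)) W)
      (_ : FiniteDimensional (AlgebraicClosure (ZMod p)) W)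
      (ψ : ↥(normalizer (V : Set G)) →* Module.End (AlgebraicClosure (ZMod p)) W),
      (∀ n : ↥(normalizer (V : Set G)), ψ n = 1 → (n : G) ∈ centralizer (V : Set G)) ∧
      ∀ n : ↥(normalizer (V : Set G)), (∀ v ∈ V, (n : G) * v * (n : G)⁻¹ = v → v = 1) →
        ∀ w, ψ n w = w → w = 0 := by
  have hc := hV.1
  let _ : CommGroup V := { V.toGroup with mul_comm := hc.is_comm.comm }
  obtain ⟨W, i1, i2, i3, ψ, h1, h2⟩ := exists_linear
    (fun a : V => Subtype.ext (hV.2 _ a.2)) V.normalizerMonoidHom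
  refine ⟨W, i1, i2, i3, ψ, fun n hn => mem_centralizer_iff.2 fun v hv => ?_, fun n hn => h2 n ?_⟩
  · exact (mul_inv_eq_iff_eq_mul.1 (congrArg Subtype.val (h1 n hn ⟨v, hv⟩) :
      (n : G) * v * (n : G)⁻¹ = v)).symm
  · exact fun a ha => Subtype.ext (hn a a.2 (congrArg Subtype.val ha))

/-- A normalizing prime order element gives an automorphism. -/
theorem exists_aut {U : Subgroup G} {x : G} {r : ℕ} (hx : x ^ r = 1)
    (hxU : x ∈ normalizer (U : Set G)) :
    ∃ α : MulAut U, α ^ r = 1 ∧ ∀ u : U, (α u : G) = x * u * x⁻¹ := by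
  refine ⟨U.normalizerMonoidHom ⟨x, hxU⟩, ?_, fun u => rfl⟩
  rw [← map_pow, show (⟨x, hxU⟩ : normalizer (U : Set G)) ^ r = 1 from Subtype.ext hx, map_one]

theorem natCast_ne_zero_of_isPGroup {p q : ℕ} (hp : p.Prime) (hq : q.Prime) (hpq : p ≠ q)
    {H : Type*} [Group H] [Finite H] (hH : IsPGroup q H) (k : Type*) [Field k] [CharP k p] :
    (Nat.card H : k) ≠ 0 := by
  have := Fact.mk hq
  obtain ⟨n, hn⟩ := IsPGroup.iff_card.mp hH
  rw [hn, Ne, CharP.cast_eq_zero_iff k p]
  exact fun h => hpq ((Nat.prime_dvd_prime_iff_eq hp hq).1 (hp.dvd_of_dvd_pow h))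

/-- `x⁻¹ α x` central and fixed forces `x` fixed. -/
theorem fixed_of_inv_mul_mem {U : Type*} [Group U] {α : MulAut U} {r q : ℕ} (hr : r.Prime)
    (hqr : q ≠ r) (hq : q.Prime) (hU : IsPGroup q U) (hαr : α ^ r = 1) {u : U}
    (h1 : α (u⁻¹ * α u) = u⁻¹ * α u) : α u = u := by
  set z := u⁻¹ * α u with hz
  have hstep : ∀ j : ℕ, (α ^ j) u = u * z ^ j := by
    intro j
    induction j with
    | zero => simp
    | succ j ih =>
        rw [pow_succ', MulAut.mul_apply, ih, map_mul, map_pow, h1, pow_succ', ← mul_assoc]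
        simp [hz]
  have h2 := hstep r
  rw [hαr, MulAut.one_apply, left_eq_mul] at h2
  obtain ⟨j, hj⟩ := hU z
  have h3 : z = 1 := by
    have h4 := pow_gcd_eq_one.mpr ⟨h2, hj⟩
    rwa [Nat.Coprime.pow_right j ((Nat.coprime_primes hr hq).2 hqr.symm), pow_one] at h4
  exact (inv_mul_eq_one.1 h3).symm

/-- The weight lemma for subgroups of `G`. -/
theorem index_cases_ambient {p q r : ℕ} (hp : p.Prime) (hq : q.Prime) (hr : r.Prime) (hpq : p ≠ q)
    (hpr : p ≠ r) (hqr : q ≠ r) {V U : Subgroup G} (hV : Cfsg.IsElementaryAbelian p V)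
    (hU : IsPGroup q U) {x : G} (hx : x ^ r = 1) (hxU : x ∈ normalizer (U : Set G))
    (hxV : x ∈ normalizer (V : Set G)) (hUV : U ≤ normalizer (V : Set G))
    (hfix : ∀ v ∈ V, x * v * x⁻¹ = v → v = 1)
    (hcomm : ∀ a b : U, ⁅a, b⁆ ∈ center U)
    (hZfix : ∀ z ∈ center U, x * (z : G) * x⁻¹ = z)
    (hfpf : ∀ u : U, x * (u : G) * x⁻¹ = u → u ∈ center U)
    (z : U) (hz : z ∈ center U) (hzV : (z : G) ∉ centralizer (V : Set G))
    (hrad : ∀ N : Subgroup U, (∀ n ∈ N, ∀ h : x * (n : G) * x⁻¹ ∈ U, (⟨_, h⟩ : U) ∈ N) → z ∉ N →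
      ∀ u, u ∉ center U → ∃ y, ⁅u, y⁆ ∉ N) :
    (center U).index = 1 ∨ (center U).index = (r - 1) ^ 2 := by
  have := Fact.mk hp
  obtain ⟨W, _, _, _, ψ, hψ, hψfix⟩ := exists_module hV
  obtain ⟨α, hαr, hα⟩ := exists_aut hx hxU
  refine index_cases (ψ.comp (inclusion hUV)) hr (ψ ⟨x, hxV⟩) ?_ (hψfix _ hfix) α ?_ hαr le_rfl
    hcomm (fun z hz => Subtype.ext ((hα z).trans (hZfix z hz))) (fun u hu => ?_) z hz
    (fun h => hzV (hψ _ h)) (fun N hN hzN u hu => hrad N (fun n hn h => ?_) hzN u hu) ?_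
    (natCast_ne_zero_of_isPGroup hp hq hpq hU _)
  · rw [← map_pow, show (⟨x, hxV⟩ : normalizer (V : Set G)) ^ r = 1 from Subtype.ext hx, map_one]
  · intro u
    simp only [MonoidHom.comp_apply, ← map_mul]
    congr 1
    refine Subtype.ext ?_
    change x * (u : G) = (α u : G) * x
    rw [hα, inv_mul_cancel_right]
  · refine hfpf u ?_
    have hu' : α (u⁻¹ * α u) = u⁻¹ * α u := Subtype.ext ((hα _).trans (hZfix _ hu))
    exact (hα u).symm.trans (congrArg Subtype.val (fixed_of_inv_mul_mem hr hqr hq hU hαr hu'))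
  · rw [show (⟨_, h⟩ : U) = α n from Subtype.ext (hα n).symm]
    exact hN n hn
  · rw [Ne, CharP.cast_eq_zero_iff (AlgebraicClosure (ZMod p)) p]
    exact fun h => hpr ((Nat.prime_dvd_prime_iff_eq hp hr).1 h)

theorem exists_gen {X : Subgroup G} {r : ℕ} (hr : r.Prime) (hX : Nat.card X = r) :
    ∃ x ∈ X, x ^ r = 1 ∧ x ≠ 1 ∧ X = zpowers x := by
  have := Fact.mk hr
  have hne : X ≠ ⊥ := fun h => by rw [h, Subgroup.card_bot] at hX; exact hr.one_lt.ne hX
  obtain ⟨⟨x, hxX⟩, hx1⟩ := Subgroup.ne_bot_iff_exists_ne_one.1 hne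
  have hx1' : x ≠ 1 := fun h => hx1 (Subtype.ext h)
  have hxr : x ^ r = 1 := by
    have h1 : (⟨x, hxX⟩ : X) ^ Nat.card X = 1 := pow_card_eq_one'
    rw [hX] at h1
    exact congrArg Subtype.val h1
  refine ⟨x, hxX, hxr, hx1', (Subgroup.eq_of_le_of_card_ge (zpowers_le.2 hxX) ?_).symm⟩
  rw [hX, Nat.card_zpowers, orderOf_eq_prime hxr hx1']

theorem mem_centralizer_zpowers {x u : G} (h : x * u * x⁻¹ = u) :
    u ∈ centralizer (zpowers x : Set G) := by
  refine mem_centralizer_iff.2 fun y hy => ?_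
  obtain ⟨n, rfl⟩ := mem_zpowers_iff.1 hy
  exact ((show Commute x u from mul_inv_eq_iff_eq_mul.1 h).zpow_left n).eq

/-- A group of prime order faithful on a `q`-group, without fixed points on a faithful module. -/
theorem fixedPoint_cases {p q r : ℕ} (hp : p.Prime) (hq : q.Prime) (hr : r.Prime) (hpq : p ≠ q)
    (hpr : p ≠ r) (hqr : q ≠ r) (X Q V : Subgroup G) (hX : Nat.card X = r) (hQ : IsPGroup q Q)
    (hXQ : X ≤ normalizer (Q : Set G)) (hXfaith : X ⊓ centralizer (Q : Set G) = ⊥)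
    (hV : Cfsg.IsElementaryAbelian p V) (hXV : X ≤ normalizer (V : Set G))
    (hQV : Q ≤ normalizer (V : Set G)) (hfaith : (X ⊔ Q) ⊓ centralizer (V : Set G) = ⊥)
    (hCV : V ⊓ centralizer (X : Set G) = ⊥) :
    q = 2 ∧ (∃ m : ℕ, r = 2 ^ m + 1) ∧ ¬ IsMulCommutative Q := by
  classical
  have := Fact.mk hp
  have := Fact.mk hq
  obtain ⟨x, hxX, hxr, hx1, hXeq⟩ := exists_gen hr hX
  -- a minimal subgroup not centralized by `X`
  have hQX : ⁅Q, X⁆ ≠ ⊥ := by
    rw [Ne, commutator_comm, commutator_eq_bot_iff_le_centralizer]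
    intro h
    rw [inf_eq_left.2 h] at hXfaith
    rw [hXfaith, Subgroup.card_bot] at hX
    exact hr.one_lt.ne hX
  obtain ⟨U, ⟨hUQ, hUX, hUnt⟩, hmin⟩ := wellFounded_lt.has_min
    {U : Subgroup G | U ≤ Q ∧ X ≤ normalizer (U : Set G) ∧ ⁅U, X⁆ ≠ ⊥} ⟨Q, le_rfl, hXQ, hQX⟩
  have hU : IsPGroup q U := hQ.to_le hUQ
  have hXcop : (Nat.card X).Coprime q := hX ▸ (Nat.coprime_primes hr hq).2 hqr.symm
  obtain ⟨hUeq, hcases, hirr, -⟩ := Cfsg.Agent.S3736.result X X U hU hUX le_rfl le_normalizer hXcop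
    hUnt (fun U' hlt hX' => by_contra fun h => hmin U' ⟨hlt.le.trans hUQ, hX', h⟩ hlt)
  have hfix : ∀ v ∈ V, x * v * x⁻¹ = v → v = 1 := fun v hv h => by
    rw [← Subgroup.mem_bot, ← hCV, hXeq]
    exact ⟨hv, mem_centralizer_zpowers h⟩
  have hnotC : ∀ u ∈ U, u ≠ 1 → u ∉ centralizer (V : Set G) := fun u hu hu1 h => hu1 (by
    rw [← Subgroup.mem_bot, ← hfaith]
    exact ⟨le_sup_right (a := X) (hUQ hu), h⟩)
  have hUfix : ∀ u : U, x * (u : G) * x⁻¹ = u → (u : G) ∈ centralizer (X : Set G) :=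
    fun u h => hXeq ▸ mem_centralizer_zpowers h
  have hxU : x ∈ normalizer (U : Set G) := hUX hxX
  by_cases hab : IsMulCommutative U
  · exfalso
    obtain ⟨W, _, _, _, ψ, hψ, hψfix⟩ := exists_module hV
    obtain ⟨α, hαr, hα⟩ := exists_aut hxr hxU
    let _ : CommGroup U := { U.toGroup with mul_comm := hab.is_comm.comm }
    have hσr : ψ ⟨x, hXV hxX⟩ ^ r = 1 := by
      rw [← map_pow, show (⟨x, hXV hxX⟩ : normalizer (V : Set G)) ^ r = 1 from Subtype.ext hxr,
        map_one]
    have hQk := natCast_ne_zero_of_isPGroup hp hq hpq hU (AlgebraicClosure (ZMod p))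
    have htriv := rho_eq_one_of_fpf (ψ.comp (inclusion (hUQ.trans hQV))) _ hr hσr
      (sum_pow_eq_zero hσr (hψfix _ hfix)) α (fun u => by
        simp only [MonoidHom.comp_apply, ← map_mul]
        congr 1
        refine Subtype.ext ?_
        change x * (u : G) = (α u : G) * x
        rw [hα, inv_mul_cancel_right]) hαr
      (fun u hu => hom_eq_one_of_fixed hU hUX hXcop hUeq (MonoidHom.id U) u
        (hUfix u ((hα u).symm.trans (congrArg Subtype.val hu))))
      (by
        rw [← map_natCast (algebraMap (AlgebraicClosure (ZMod p)) _)]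
        exact (isUnit_iff_ne_zero.2 hQk).map _)
    have hUne : U ≠ ⊥ := fun h => hUnt (h ▸ commutator_bot_left X)
    obtain ⟨⟨u, hu⟩, hu1⟩ := Subgroup.ne_bot_iff_exists_ne_one.1 hUne
    exact hnotC u hu (fun h => hu1 (Subtype.ext h)) (hψ _ (htriv ⟨u, hu⟩))
  have hsp : Cfsg.IsSpecial q U := hcases.resolve_left fun h => hab h.1
  obtain ⟨-, hΦ, hcd⟩ := hsp
  have hnc : ¬ IsMulCommutative Q := fun h => hab
    ⟨⟨fun a b => Subtype.ext (congrArg Subtype.val
      (h.is_comm.comm (⟨a, hUQ a.2⟩ : Q) ⟨b, hUQ b.2⟩) : (a : G) * b = b * a)⟩⟩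
  have hZtop : center U ≠ ⊤ := fun h =>
    hab ⟨⟨fun a b => Subgroup.mem_center_iff.1 (h ▸ Subgroup.mem_top b) a⟩⟩
  have hcomm : ∀ a b : U, ⁅a, b⁆ ∈ center U := fun a b => hcd ▸
    Subgroup.commutator_mem_commutator (mem_top a) (mem_top b)
  have hZC : (center U).map U.subtype ≤ centralizer (X : Set G) := by
    have hlt : (center U).map U.subtype < U := by
      refine lt_of_le_of_ne (map_subtype_le _) fun h => hZtop ?_
      apply map_injective U.subtype_injective
      rw [h, ← MonoidHom.range_eq_map, range_subtype]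
    have h0 := by_contra (p := ⁅(center U).map U.subtype, X⁆ = ⊥) fun h => hmin _
      ⟨(map_subtype_le _).trans hUQ, char_map_invariant hUX _, h⟩ hlt
    exact commutator_eq_bot_iff_le_centralizer.1 h0
  obtain ⟨z, hz, hz1⟩ : ∃ z ∈ center U, z ≠ 1 := by
    by_contra h
    push Not at h
    refine hab ⟨⟨fun a b => commutatorElement_eq_one_iff_mul_comm.1 (h _ (hcomm a b))⟩⟩
  have hidx := index_cases_ambient hp hq hr hpq hpr hqr hV hU hxr hxU (hXV hxX) (hUQ.trans hQV)
    hfix hcomm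
    (fun z hz => by
      have h1 : (z : G) ∈ centralizer (X : Set G) := hZC (mem_map_of_mem U.subtype hz)
      rw [mem_centralizer_iff.1 h1 x hxX, mul_inv_cancel_right])
    (fun u hu => by
      rw [← hcd, ← Abelianization.ker_of]
      exact hom_eq_one_of_fixed hU hUX hXcop hUeq (Abelianization.of (G := U)) u (hUfix u hu))
    z hz (hnotC z z.2 (fun h => hz1 (Subtype.ext h))) ?_
  · obtain ⟨n, hn⟩ := IsPGroup.iff_card.mp hU
    obtain ⟨e, -, he⟩ := (Nat.dvd_prime_pow hq).1 (hn ▸ (center U).index_dvd_card)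
    have hne : (center U).index ≠ 1 := fun h => hZtop (Subgroup.index_eq_one.1 h)
    have he0 : 0 < e := Nat.pos_of_ne_zero fun h0 => hne (by rw [he, h0, pow_zero])
    rcases hidx with h | h
    · exact absurd h hne
    · obtain ⟨h2, m, hm, -⟩ := prime_power_eq_sq hq hr he0 (he ▸ h)
      exact ⟨h2, ⟨m, hm⟩, hnc⟩
  intro N hN hzN u hu
  by_contra hall
  push Not at hall
  have hcmul : ∀ a b c : U, ⁅a * b, c⁆ = ⁅a, c⁆ * ⁅b, c⁆ := fun a b c => by
    have h1 := Subgroup.mem_center_iff.1 (hcomm b c) a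
    calc ⁅a * b, c⁆ = a * ⁅b, c⁆ * (c * a⁻¹ * c⁻¹) := by
          simp only [commutatorElement_def]; group
      _ = ⁅b, c⁆ * a * (c * a⁻¹ * c⁻¹) := by rw [h1]
      _ = ⁅b, c⁆ * ⁅a, c⁆ := by simp only [commutatorElement_def]; group
      _ = _ := (Subgroup.mem_center_iff.1 (hcomm b c) _).symm
  let R : Subgroup U :=
    { carrier := {a | ∀ c, ⁅a, c⁆ ∈ N}
      mul_mem' := fun {a b} ha hb c => by rw [hcmul]; exact N.mul_mem (ha c) (hb c)
      one_mem' := fun c => by rw [commutatorElement_one_left]; exact N.one_mem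
      inv_mem' := fun {a} ha c => by
        have h1 := hcmul a a⁻¹ c
        rw [mul_inv_cancel, commutatorElement_one_left] at h1
        rw [eq_inv_of_mul_eq_one_right h1.symm]
        exact N.inv_mem (ha c) }
  have hZR : center U ≤ R := fun a ha c => by
    rw [commutatorElement_eq_one_iff_mul_comm.2 (Subgroup.mem_center_iff.1 ha c).symm]
    exact N.one_mem
  have hRinv : X ≤ normalizer ((R.map U.subtype : Subgroup G) : Set G) := by
    rw [hXeq, zpowers_le]
    have hmapc : ∀ a ∈ R.map U.subtype, x * a * x⁻¹ ∈ R.map U.subtype := by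
      rintro _ ⟨a, ha, rfl⟩
      refine ⟨U.normalizerMonoidHom ⟨x, hxU⟩ a, fun c => ?_, rfl⟩
      let β := U.normalizerMonoidHom ⟨x, hxU⟩
      obtain ⟨c', rfl⟩ := β.surjective c
      rw [← map_commutatorElement β a c']
      exact hN _ (ha c') (β ⁅a, c'⁆).2
    refine mem_normalizer_iff.2 fun a => ⟨hmapc a, fun h => ?_⟩
    have hpow : ∀ (j : ℕ), x ^ j * (x * a * x⁻¹) * (x ^ j)⁻¹ ∈ R.map U.subtype := by
      intro j
      induction j with
      | zero => simpa using h
      | succ j ih => convert hmapc _ ih using 1; rw [pow_succ']; group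
    have h1 := hpow (r - 1)
    rwa [show x ^ (r - 1) = x⁻¹ from eq_inv_of_mul_eq_one_left (by
      rw [← pow_succ, Nat.sub_add_cancel hr.one_le, hxr]), show
      x⁻¹ * (x * a * x⁻¹) * x⁻¹⁻¹ = a by group] at h1
  rcases hirr (R.map U.subtype) (map_mono (hΦ ▸ hZR)) (map_subtype_le _) hRinv with h | h
  · exact hu (hΦ ▸ (map_injective U.subtype_injective h ▸ (fun c => hall c : u ∈ R)))
  · have htop : R = ⊤ := map_injective U.subtype_injective
      (h.trans (by rw [← MonoidHom.range_eq_map, range_subtype]))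
    have hle : commutator U ≤ N := by
      rw [_root_.commutator_def, commutator_le]
      exact fun a _ b _ => (htop ▸ mem_top a : a ∈ R) b
    exact hzN (hle (hcd ▸ hz))

end Ambient

end Cfsg.Agent.Lib.Shult
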