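import Mathlib

/-!
# A prime order automorphism of a group with a nondegenerate central commutator form

`Q` is a finite group with a subgroup `Z` of scalars in a faithful enough representation `ρ`, such
that `x ↦ ρ x` is "nondegenerate" outside `Z`.  An operator `σ` of prime order `r` inducing an
automorphism of `Q` which fixes `Z` pointwise and moves every other coset, and which has no nonzero
fixed vector, forces `[Q : Z]` to be `1` or `(r - 1) ^ 2`.
-/

set_option autoImplicit false
set_option linter.unusedSectionVars false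

namespace Cfsg.Agent.Lib.Shult

open Module

section Count

/-- The arithmetic at the end: the multiplicities of the eigenvalues. -/
theorem count_arith {r d o k : ℕ} (hk : k < r) (hk1 : 1 ≤ k) (hdo : k ≤ o)
    (hd : k ≤ d) (hdk : d * d ≤ k * o) (ho : r * o + 1 = r + d * d) :
    d * d = 1 ∨ d * d = (r - 1) * (r - 1) := by
  obtain ⟨a, rfl⟩ : ∃ a, r = k + a := ⟨r - k, by omega⟩
  have ha : 1 ≤ a := by omega
  have h1 : a * o + 1 ≤ k + a := by
    rw [Nat.add_mul] at ho
    omega
  have h2 : a * k + 1 ≤ k + a := le_trans (by gcongr) h1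
  rcases Nat.lt_or_ge 1 k with hk2 | hk2
  · rcases Nat.lt_or_ge 1 a with ha2 | ha2
    · exfalso; nlinarith
    · obtain rfl : a = 1 := by omega
      right
      have : o = k := by omega
      subst this
      rw [Nat.add_sub_cancel]
      refine le_antisymm ?_ (Nat.mul_le_mul hd hd)
      exact hdk
  · obtain rfl : k = 1 := by omega
    left
    have : o = 1 := by nlinarith
    subst this
    omega

variable {k : Type*} [Field k] {V : Type*} [AddCommGroup V] [Module k V]

/-- The operators commuting with `s`. -/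
def commutant (s : Module.End k V) : Submodule k (Module.End k V) where
  carrier := {g | g * s = s * g}
  add_mem' {a b} ha hb := by
    simp only [Set.mem_setOf_eq] at *
    rw [add_mul, mul_add, ha, hb]
  zero_mem' := by simp
  smul_mem' c g hg := by
    simp only [Set.mem_setOf_eq] at *
    rw [smul_mul_assoc, mul_smul_comm, hg]

theorem mem_commutant {s g : Module.End k V} : g ∈ commutant s ↔ g * s = s * g := Iff.rfl

variable {ι : Type*} [Fintype ι] [DecidableEq ι] (b : Basis ι k V) {e : ι → k}
  {s : Module.End k V}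

theorem toMatrix_diagonal (hs : ∀ i, s (b i) = e i • b i) :
    LinearMap.toMatrix b b s = Matrix.diagonal e := by
  ext i j
  rw [LinearMap.toMatrix_apply, hs, map_smul, Basis.repr_self, Finsupp.smul_apply,
    Finsupp.single_apply, Matrix.diagonal_apply, smul_eq_mul]
  by_cases h : i = j
  · subst h; simp
  · simp [h, Ne.symm h]

theorem mem_commutant_iff_matrix (hs : ∀ i, s (b i) = e i • b i) (g : Module.End k V) :
    g ∈ commutant s ↔ ∀ i j, e i ≠ e j → LinearMap.toMatrix b b g i j = 0 := by
  classical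
  rw [mem_commutant, ← (LinearMap.toMatrix b b).injective.eq_iff]
  rw [LinearMap.toMatrix_mul, LinearMap.toMatrix_mul, toMatrix_diagonal b hs, ← Matrix.ext_iff]
  refine forall_congr' fun i => forall_congr' fun j => ?_
  rw [Matrix.mul_diagonal, Matrix.diagonal_mul]
  constructor
  · intro h hne
    by_contra hg
    exact hne (mul_left_cancel₀ hg (by rw [h, mul_comm])).symm
  · intro h
    by_cases he : e i = e j
    · rw [he, mul_comm]
    · rw [h he]; ring

theorem finrank_commutant (hs : ∀ i, s (b i) = e i • b i) :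
    finrank k (commutant s) = Nat.card {ij : ι × ι // e ij.1 = e ij.2} := by
  classical
  let L : commutant s ≃ₗ[k] ({ij : ι × ι // e ij.1 = e ij.2} → k) :=
    { toFun := fun g ij => LinearMap.toMatrix b b g.1 ij.1.1 ij.1.2
      map_add' := fun g g' => by funext ij; simp
      map_smul' := fun c g => by funext ij; simp
      invFun := fun a => ⟨Matrix.toLin b b (Matrix.of fun i j =>
          if h : e i = e j then a ⟨(i, j), h⟩ else 0), by
        rw [mem_commutant_iff_matrix b hs]
        intro i j h
        rw [LinearMap.toMatrix_toLin, Matrix.of_apply, dif_neg h]⟩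
      left_inv := fun g => by
        refine Subtype.ext ?_
        apply (LinearMap.toMatrix b b).injective
        rw [LinearMap.toMatrix_toLin]
        ext i j
        rw [Matrix.of_apply]
        by_cases h : e i = e j
        · rw [dif_pos h]
        · rw [dif_neg h, (mem_commutant_iff_matrix b hs g.1).1 g.2 i j h]
      right_inv := fun a => by
        funext ij
        obtain ⟨⟨i, j⟩, h⟩ := ij
        simp [h] }
  rw [L.finrank_eq, Module.finrank_pi, Nat.card_eq_fintype_card]

/-- `d ^ 2 ≤ (number of eigenvalues) * (dimension of the commutant)`, and the eigenvalues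
number at most the dimension of the commutant. -/
theorem card_sq_le (e : ι → k) [DecidableEq k] :
    Fintype.card ι * Fintype.card ι ≤
        (Finset.univ.image e).card * Nat.card {ij : ι × ι // e ij.1 = e ij.2} ∧
      (Finset.univ.image e).card ≤ Nat.card {ij : ι × ι // e ij.1 = e ij.2} := by
  let S := Finset.univ.image e
  let m : k → ℕ := fun a => (Finset.univ.filter fun i => e i = a).card
  have hd : Fintype.card ι = ∑ a ∈ S, m a :=
    Finset.card_eq_sum_card_image e Finset.univ
  have ho : Nat.card {ij : ι × ι // e ij.1 = e ij.2} = ∑ a ∈ S, m a ^ 2 := by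
    rw [Nat.card_eq_fintype_card, Fintype.card_subtype,
      Finset.card_eq_sum_card_fiberwise (f := fun ij : ι × ι => e ij.1) (t := S)
        (fun ij _ => Finset.mem_image_of_mem e (Finset.mem_univ _))]
    refine Finset.sum_congr rfl fun a _ => ?_
    rw [sq, ← Finset.card_product]
    refine congrArg Finset.card ?_
    ext ⟨i, j⟩
    simp only [Finset.mem_filter, Finset.mem_univ, true_and, Finset.mem_product]
    constructor
    · rintro ⟨h1, h2⟩; exact ⟨h2, h1 ▸ h2 ▸ rfl⟩
    · rintro ⟨h1, h2⟩; exact ⟨h1.trans h2.symm, h1⟩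
  refine ⟨?_, ?_⟩
  · rw [hd, ho, ← sq]
    exact sq_sum_le_card_mul_sum_sq
  · rw [ho]
    calc S.card = ∑ _a ∈ S, 1 := by simp
      _ ≤ _ := Finset.sum_le_sum fun a ha => by
        obtain ⟨i, -, rfl⟩ := Finset.mem_image.1 ha
        exact Nat.one_le_pow _ _ (Finset.card_pos.2 ⟨i, by simp⟩)

theorem card_image_le_card (e : ι → k) [DecidableEq k] :
    (Finset.univ.image e).card ≤ Fintype.card ι := Finset.card_image_le

end Count

section Orbits

variable {k : Type*} [Field k] {E : Type*} [AddCommGroup E] [Module k E]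
  {X : Type*} [Finite X]

/-- Fixed vectors of a map permuting a basis up to scalars: one fixed point and otherwise free
orbits of prime length `r`. -/
theorem finrank_fixed_monomial {r : ℕ} (hr : r.Prime) (b : Basis X k E) (T : E →ₗ[k] E)
    (hTr : T ^ r = 1) (π : X → X) (c : X → k) (hc : ∀ x, c x ≠ 0)
    (hT : ∀ x, T (b x) = c x • b (π x)) (x₀ : X) (hT₀ : T (b x₀) = b x₀)
    (hfp : ∀ x, π x = x → x = x₀) :
    r * finrank k (LinearMap.eqLocus T LinearMap.id) + 1 = r + Nat.card X := by
  classical
  have := Fintype.ofFinite X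
  have hπ₀ : π x₀ = x₀ := by
    by_contra hne
    have h := congrArg (fun v => b.repr v (π x₀)) ((hT x₀).symm.trans hT₀)
    simp only [map_smul, Basis.repr_self, Finsupp.smul_apply, Finsupp.single_eq_same,
      smul_eq_mul, mul_one] at h
    rw [Finsupp.single_eq_of_ne hne] at h
    exact hc x₀ h
  -- iterates
  have hiter : ∀ (j : ℕ) (x : X), ∃ a : k, a ≠ 0 ∧ (T ^ j) (b x) = a • b (π^[j] x) := by
    intro j
    induction j with
    | zero => intro x; exact ⟨1, one_ne_zero, by simp⟩
    | succ j ih =>
        intro x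
        obtain ⟨a, ha, h⟩ := ih x
        refine ⟨a * c (π^[j] x), mul_ne_zero ha (hc _), ?_⟩
        rw [pow_succ', Module.End.mul_apply, h, map_smul, hT, smul_smul,
          Function.iterate_succ_apply']
  have hπr : ∀ x, π^[r] x = x := by
    intro x
    by_contra hne
    obtain ⟨a, ha, h⟩ := hiter r x
    rw [hTr, Module.End.one_apply] at h
    have h2 := congrArg (fun v => b.repr v (π^[r] x)) h
    simp only [map_smul, Basis.repr_self, Finsupp.smul_apply, Finsupp.single_eq_same,
      smul_eq_mul, mul_one] at h2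
    rw [Finsupp.single_eq_of_ne hne] at h2
    exact ha h2.symm
  have hmod : ∀ (j : ℕ) (x : X), π^[j] x = π^[j % r] x := by
    intro j x
    conv_lhs => rw [← Nat.mod_add_div j r, Function.iterate_add_apply, Function.iterate_mul]
    rw [Function.iterate_fixed (hπr x)]
  -- the classes
  let st : Setoid X :=
    { r := fun x y => ∃ j : ℕ, π^[j] x = y
      iseqv :=
        { refl := fun x => ⟨0, rfl⟩
          symm := fun {x y} h => by
            obtain ⟨j, rfl⟩ := h
            refine ⟨r - j % r, ?_⟩
            rw [hmod j x, ← Function.iterate_add_apply,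
              Nat.sub_add_cancel (Nat.mod_lt j hr.pos).le, hπr]
          trans := fun {x y z} h h' => by
            obtain ⟨j, rfl⟩ := h; obtain ⟨i, rfl⟩ := h'
            exact ⟨i + j, by rw [Function.iterate_add_apply]⟩ } }
  let C := Quotient st
  have : Fintype C := Fintype.ofFinite C
  let rep : C → X := Quotient.out
  have hmk : ∀ C' : C, Quotient.mk st (rep C') = C' := Quotient.out_eq
  have hmkπ : ∀ j x, Quotient.mk st (π^[j] x) = Quotient.mk st x := fun j x =>
    (Quotient.sound (s := st) ⟨j, rfl⟩ : Quotient.mk st x = Quotient.mk st (π^[j] x)).symm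
  have hinj : ∀ x, x ≠ x₀ → ∀ i < r, ∀ j < r, π^[i] x = π^[j] x → i = j := by
    intro x hx i hi j hj he
    have hp : Function.minimalPeriod π x = r := by
      rcases hr.eq_one_or_self_of_dvd _ (Function.IsPeriodicPt.minimalPeriod_dvd (hπr x)) with h | h
      · exact absurd (hfp x (Function.minimalPeriod_eq_one_iff_isFixedPt.1 h)) hx
      · exact h
    exact Function.iterate_injOn_Iio_minimalPeriod (hp.symm ▸ hi) (hp.symm ▸ hj) he
  have hx₀c : ∀ x, Quotient.mk st x = Quotient.mk st x₀ → x = x₀ := by
    intro x h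
    obtain ⟨j, hj⟩ := Quotient.exact h.symm
    rw [← hj, Function.iterate_fixed hπ₀]
  -- the number of classes
  have hcount : r * Fintype.card C + 1 = r + Nat.card X := by
    have hfib : ∀ C' : C, C' ≠ Quotient.mk st x₀ →
        (Finset.univ.filter fun x => Quotient.mk st x = C').card = r := by
      intro C' hC
      have : (Finset.univ.filter fun x => Quotient.mk st x = C') =
          (Finset.range r).image fun j => π^[j] (rep C') := by
        ext x
        simp only [Finset.mem_filter, Finset.mem_univ, true_and, Finset.mem_image,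
          Finset.mem_range]
        constructor
        · intro hx
          obtain ⟨j, hj⟩ := Quotient.exact ((hmk C').trans hx.symm)
          exact ⟨j % r, Nat.mod_lt _ hr.pos, by rw [← hmod]; exact hj⟩
        · rintro ⟨j, -, rfl⟩
          rw [hmkπ, hmk]
      rw [this, Finset.card_image_of_injOn, Finset.card_range]
      intro i hi j hj he
      simp only [Finset.coe_range, Set.mem_Iio] at hi hj
      refine hinj _ (fun h => hC ?_) i hi j hj he
      rw [← hmk C', h]
    have h0 : (Finset.univ.filter fun x => Quotient.mk st x = Quotient.mk st x₀).card = 1 := by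
      rw [Finset.card_eq_one]
      exact ⟨x₀, by ext x; simpa using ⟨hx₀c x, fun h => h ▸ rfl⟩⟩
    rw [Nat.card_eq_fintype_card, ← Finset.card_univ (α := X),
      Finset.card_eq_sum_card_fiberwise (f := Quotient.mk st) (t := Finset.univ)
        (fun x _ => Finset.mem_univ _),
      ← Finset.add_sum_erase _ _ (Finset.mem_univ (Quotient.mk st x₀)), h0,
      Finset.sum_const_nat fun C' hC => hfib C' (Finset.ne_of_mem_erase hC),
      Finset.card_erase_of_mem (Finset.mem_univ _), Finset.card_univ]
    have hpos : 1 ≤ Fintype.card C := Fintype.card_pos_iff.2 ⟨Quotient.mk st x₀⟩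
    obtain ⟨a, ha⟩ := Nat.exists_eq_add_of_le hpos
    rw [ha, Nat.add_sub_cancel_left]
    ring
  rw [← hcount]
  congr 2
  -- one fixed vector for each class
  let v : C → E := fun C' =>
    if C' = Quotient.mk st x₀ then b x₀ else ∑ j ∈ Finset.range r, (T ^ j) (b (rep C'))
  have hvfix : ∀ C', T (v C') = v C' := by
    intro C'
    simp only [v]
    split_ifs
    · exact hT₀
    · rw [map_sum]
      have h1 : ∀ j, T ((T ^ j) (b (rep C'))) = (T ^ (j + 1)) (b (rep C')) := fun j => by
        rw [pow_succ', Module.End.mul_apply]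
      simp only [h1]
      have h2 := Finset.sum_range_succ' (fun j => (T ^ j) (b (rep C'))) r
      rw [Finset.sum_range_succ, hTr, pow_zero] at h2
      exact (add_right_cancel h2).symm
  have hvrep : ∀ C' D, b.repr (v C') (rep D) = if C' = D then 1 else 0 := by
    intro C' D
    simp only [v]
    split_ifs with h1 h2 h3
    · subst h2; subst h1
      rw [show rep (Quotient.mk st x₀) = x₀ from hx₀c _ (hmk _)]
      simp
    · rw [Basis.repr_self, Finsupp.single_eq_of_ne]
      intro he
      exact h2 (by rw [h1, ← he, hmk])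
    · subst h3
      rw [map_sum, Finsupp.finsetSum_apply, Finset.sum_eq_single 0]
      · simp
      · intro j hj hj0
        obtain ⟨a, -, h⟩ := hiter j (rep C')
        rw [h, map_smul, Basis.repr_self, Finsupp.smul_apply, Finsupp.single_eq_of_ne, smul_zero]
        intro he
        refine hj0 (hinj (rep C') (fun h => h1 ?_) j (Finset.mem_range.1 hj) 0 hr.pos he.symm)
        rw [← hmk C', h]
      · intro h; exact absurd (Finset.mem_range.2 hr.pos) h
    · rw [map_sum, Finsupp.finsetSum_apply]
      refine Finset.sum_eq_zero fun j _ => ?_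
      obtain ⟨a, -, h⟩ := hiter j (rep C')
      rw [h, map_smul, Basis.repr_self, Finsupp.smul_apply, Finsupp.single_eq_of_ne, smul_zero]
      intro he
      exact h3 (by rw [← hmk C', ← hmk D, he, hmkπ])
  let Φ : LinearMap.eqLocus T LinearMap.id ≃ₗ[k] (C → k) :=
    LinearEquiv.ofBijective
      (LinearMap.pi fun D => (b.coord (rep D)).comp (LinearMap.eqLocus T LinearMap.id).subtype) (by
      constructor
      · rw [← LinearMap.ker_eq_bot, LinearMap.ker_eq_bot']
        rintro ⟨f, hf⟩ h
        refine Subtype.ext ?_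
        have hf' : T f = f := hf
        have hstep : ∀ x, b.repr f (π x) = c x * b.repr f x := by
          intro x
          conv_lhs => rw [← hf', ← b.sum_repr f, map_sum, map_sum, Finsupp.finsetSum_apply]
          rw [Finset.sum_eq_single x]
          · simp [hT, mul_comm]
          · intro y _ hy
            rw [map_smul, hT, map_smul, map_smul, Basis.repr_self, Finsupp.smul_apply,
              Finsupp.smul_apply, Finsupp.single_eq_of_ne, smul_zero, smul_zero]
            intro he
            apply hy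
            have h2 := congrArg (π^[r - 1]) he.symm
            rwa [← Function.iterate_succ_apply, ← Function.iterate_succ_apply, Nat.succ_eq_add_one,
              Nat.sub_add_cancel hr.one_le, hπr, hπr] at h2
          · simp
        refine b.ext_elem fun x => ?_
        rw [ZeroMemClass.coe_zero, map_zero, Finsupp.zero_apply]
        obtain ⟨j, hj⟩ := Quotient.exact (hmk (Quotient.mk st x))
        rw [← hj]
        clear hj
        change b.repr f (π^[j] (rep (Quotient.mk st x))) = 0
        induction j with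
        | zero => exact congrFun h _
        | succ j ih =>
            rw [Function.iterate_succ_apply', hstep]
            simp [ih]
      · intro a
        refine ⟨⟨∑ C', a C' • v C', show T (∑ C', a C' • v C') = ∑ C', a C' • v C' by
          simp [hvfix]⟩, funext fun D => ?_⟩
        simp [hvrep]
        rw [Finset.sum_eq_single D] <;> simp +contextual)
  rw [Φ.finrank_eq, Module.finrank_pi]

end Orbits

section Twisted

variable {k : Type*} [Field k] {Q : Type*} [Group Q] [Finite Q]
  {W : Type*} [AddCommGroup W] [Module k W]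

/-- `ρ` is an irreducible-or-not representation of `Q` in which `Z` acts by scalars, all commutators
are scalars and nothing outside `Z` is central. -/
structure IsTwisted (Z : Subgroup Q) (ρ : Q →* Module.End k W) : Prop where
  scal : ∀ z ∈ Z, ∃ a : k, ρ z = a • 1
  comm : ∀ x y : Q, ∃ a : k, ρ y * ρ x = a • (ρ x * ρ y)
  nondeg : ∀ x, x ∉ Z → ∃ y, ρ y * ρ x ≠ ρ x * ρ y

variable {Z : Subgroup Q} {ρ : Q →* Module.End k W}

theorem rho_mul_inv (x : Q) : ρ x * ρ x⁻¹ = 1 := by rw [← map_mul, mul_inv_cancel, map_one]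

theorem rho_inv_mul (x : Q) : ρ x⁻¹ * ρ x = 1 := by rw [← map_mul, inv_mul_cancel, map_one]

theorem rho_ne_zero [Nontrivial W] (x : Q) : ρ x ≠ 0 := fun h => by
  have := rho_mul_inv (ρ := ρ) x
  rw [h, zero_mul] at this
  exact zero_ne_one this

/-- The coset representative basis. -/
noncomputable def B (ρ : Q →* Module.End k W) (q : Q ⧸ Z) : Module.End k W := ρ q.out

theorem IsTwisted.exists_smul (h : IsTwisted Z ρ) [Nontrivial W] (x : Q) :
    ∃ a : k, a ≠ 0 ∧ ρ x = a • B ρ (QuotientGroup.mk (s := Z) x) := by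
  have hz : (Quotient.out (QuotientGroup.mk (s := Z) x))⁻¹ * x ∈ Z :=
    QuotientGroup.eq.1 (QuotientGroup.out_eq' _)
  obtain ⟨a, ha⟩ := h.scal _ hz
  have e : ρ x = a • B ρ (QuotientGroup.mk (s := Z) x) := by
    conv_lhs => rw [← mul_inv_cancel_left (Quotient.out (QuotientGroup.mk (s := Z) x)) x]
    rw [map_mul, ha, mul_smul_comm, mul_one]
    rfl
  refine ⟨a, fun h0 => rho_ne_zero (ρ := ρ) x ?_, e⟩
  rw [e, h0, zero_smul]

theorem IsTwisted.linearIndependent (h : IsTwisted Z ρ) [Nontrivial W] :
    LinearIndependent k (B ρ : Q ⧸ Z → Module.End k W) := by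
  classical
  choose c hc using h.comm
  rw [linearIndependent_iff']
  intro s
  induction s using Finset.induction with
  | empty => simp
  | insert q₀ s hq₀ ih =>
      intro g hg
      rw [Finset.sum_insert hq₀] at hg
      have hrest : ∀ q ∈ s, g q = 0 := by
        intro q hq
        have hne : q₀ ≠ q := fun e => hq₀ (e ▸ hq)
        have hxZ : q₀.out⁻¹ * q.out ∉ Z := fun hx => hne (by
          rw [← QuotientGroup.out_eq' q₀, ← QuotientGroup.out_eq' q, QuotientGroup.eq]
          exact hx)
        obtain ⟨y, hy⟩ := h.nondeg _ hxZ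
        have hne' : c q.out y ≠ c q₀.out y := by
          intro e
          apply hy
          rw [map_mul]
          have h1 : ρ y * ρ q₀.out⁻¹ * c q₀.out y • 1 = ρ q₀.out⁻¹ * ρ y := by
            calc ρ y * ρ q₀.out⁻¹ * c q₀.out y • 1
                = ρ q₀.out⁻¹ * (c q₀.out y • (ρ q₀.out * ρ y)) * ρ q₀.out⁻¹ := by
                  rw [mul_smul_comm, mul_one, mul_smul_comm, smul_mul_assoc,
                    ← mul_assoc (ρ q₀.out⁻¹), rho_inv_mul, one_mul]
              _ = ρ q₀.out⁻¹ * (ρ y * ρ q₀.out) * ρ q₀.out⁻¹ := by rw [← hc q₀.out y]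
              _ = ρ q₀.out⁻¹ * ρ y := by rw [mul_assoc, mul_assoc, rho_mul_inv, mul_one]
          calc ρ y * (ρ q₀.out⁻¹ * ρ q.out)
              = ρ y * ρ q₀.out⁻¹ * ρ q.out := by rw [mul_assoc]
            _ = ρ q₀.out⁻¹ * ρ q.out * ρ y := by
                rcases eq_or_ne (c q₀.out y) 0 with h0 | h0
                · exfalso
                  have := hc q₀.out y
                  rw [h0, zero_smul, ← map_mul] at this
                  exact rho_ne_zero (ρ := ρ) _ this
                · have h2 : ρ y * ρ q₀.out⁻¹ = (c q₀.out y)⁻¹ • (ρ q₀.out⁻¹ * ρ y) := by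
                    rw [← h1, mul_smul_comm, mul_one, smul_smul, inv_mul_cancel₀ h0, one_smul]
                  rw [h2, smul_mul_assoc, mul_assoc, hc q.out y, mul_smul_comm, smul_smul, e,
                    inv_mul_cancel₀ h0, one_smul, mul_assoc]
        have h2 : ∑ q ∈ s, (g q * (c q.out y - c q₀.out y)) • B ρ q = 0 := by
          have e1 : ρ y * (g q₀ • B ρ q₀ + ∑ q ∈ s, g q • B ρ q) * ρ y⁻¹ = 0 := by
            rw [hg, mul_zero, zero_mul]
          have hB : ∀ q : Q ⧸ Z, ρ y * B ρ q * ρ y⁻¹ = c q.out y • B ρ q := fun q => by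
            change ρ y * ρ q.out * ρ y⁻¹ = _
            rw [hc, smul_mul_assoc, mul_assoc, rho_mul_inv, mul_one]
            rfl
          simp only [mul_add, add_mul, Finset.mul_sum, Finset.sum_mul, mul_smul_comm,
            smul_mul_assoc, hB, smul_smul] at e1
          have e2 : c q₀.out y • (g q₀ • B ρ q₀ + ∑ q ∈ s, g q • B ρ q) = 0 := by
            rw [hg, smul_zero]
          simp only [smul_add, Finset.smul_sum, smul_smul] at e2
          have e3 := sub_eq_zero.2 (e1.trans e2.symm)
          rw [mul_comm (c q₀.out y) (g q₀), add_sub_add_left_eq_sub, ← Finset.sum_sub_distrib] at e3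
          rw [← e3]
          refine Finset.sum_congr rfl fun q _ => ?_
          rw [← sub_smul, mul_sub, mul_comm (c q₀.out y)]
        exact (mul_eq_zero.1 (ih _ h2 q hq)).resolve_right (sub_ne_zero.2 hne')
      intro i hi
      rcases Finset.mem_insert.1 hi with rfl | hi
      · rw [Finset.sum_eq_zero (fun q hq => by rw [hrest q hq, zero_smul]), add_zero] at hg
        exact (smul_eq_zero.1 hg).resolve_right (rho_ne_zero _)
      · exact hrest i hi

/-- Averaging over the cosets. -/
theorem IsTwisted.sum_conj_comm (h : IsTwisted Z ρ) [Nontrivial W] [Fintype (Q ⧸ Z)]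
    (f : Module.End k W) (β : Q →* Q) (hβ : ∀ z ∈ Z, β z = z) (x : Q) :
    ρ (β x) * (∑ q : Q ⧸ Z, ρ (β q.out) * f * ρ q.out⁻¹) =
      (∑ q : Q ⧸ Z, ρ (β q.out) * f * ρ q.out⁻¹) * ρ x := by
  -- the summand does not depend on the representative
  have hwd : ∀ (y : Q), ρ (β y) * f * ρ y⁻¹ =
      ρ (β (QuotientGroup.mk (s := Z) y).out) * f * ρ (QuotientGroup.mk (s := Z) y).out⁻¹ := by
    intro y
    let w := (QuotientGroup.mk (s := Z) y).out
    have hz : w⁻¹ * y ∈ Z := QuotientGroup.eq.1 (QuotientGroup.out_eq' _)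
    obtain ⟨a, ha⟩ := h.scal _ hz
    obtain ⟨a', ha'⟩ := h.scal _ (Z.inv_mem hz)
    have haa : a * a' = 1 := by
      have h1 := rho_mul_inv (ρ := ρ) (w⁻¹ * y)
      rw [ha, ha', smul_mul_smul_comm, one_mul] at h1
      by_contra hne
      have h2 : (a * a' - 1) • (1 : Module.End k W) = 0 := by rw [sub_smul, h1, one_smul, sub_self]
      exact hne (sub_eq_zero.1 ((smul_eq_zero.1 h2).resolve_right one_ne_zero))
    change ρ (β y) * f * ρ y⁻¹ = ρ (β w) * f * ρ w⁻¹
    conv_lhs => rw [show y = w * (w⁻¹ * y) by group]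
    rw [map_mul, map_mul, hβ _ hz, ha, mul_inv_rev, map_mul, ha']
    simp only [mul_smul_comm, smul_mul_assoc, mul_one, one_mul, smul_smul]
    rw [mul_comm a' a, haa, one_smul]
  rw [Finset.mul_sum, Finset.sum_mul]
  refine Fintype.sum_equiv
    { toFun := fun q => x • q, invFun := fun q => x⁻¹ • q
      left_inv := inv_smul_smul x, right_inv := smul_inv_smul x } _ _ fun q => ?_
  have hq : QuotientGroup.mk (s := Z) (x * q.out) = x • q := by
    conv_rhs => rw [← QuotientGroup.out_eq' q]
    rfl
  change ρ (β x) * (ρ (β q.out) * f * ρ q.out⁻¹) = ρ (β (x • q).out) * f * ρ (x • q).out⁻¹ * ρ x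
  rw [← hq, ← hwd, map_mul, map_mul, mul_inv_rev, map_mul]
  simp only [mul_assoc]
  rw [rho_inv_mul, mul_one]

end Twisted

section Core

variable {k : Type*} [Field k] [IsAlgClosed k] {Q : Type*} [Group Q] [Finite Q]
  {W : Type*} [AddCommGroup W] [Module k W] [FiniteDimensional k W] {Z : Subgroup Q}
  {ρ : Q →* Module.End k W}

/-- Schur. -/
theorem exists_eq_smul_one [Nontrivial W]
    (hirr : ∀ U : Submodule k W, (∀ x, ∀ u ∈ U, ρ x u ∈ U) → U = ⊥ ∨ U = ⊤)
    (E : Module.End k W) (hE : ∀ x, ρ x * E = E * ρ x) : ∃ a : k, E = a • 1 := by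
  obtain ⟨a, ha⟩ := E.exists_eigenvalue
  refine ⟨a, ?_⟩
  have hinv : ∀ x, ∀ u ∈ E.eigenspace a, ρ x u ∈ E.eigenspace a := fun x u hu => by
    rw [Module.End.mem_eigenspace_iff] at hu ⊢
    rw [← Module.End.mul_apply, ← hE, Module.End.mul_apply, hu, map_smul]
  rcases hirr (E.eigenspace a) hinv with h | h
  · exact absurd h (Module.End.hasEigenvalue_iff.1 ha)
  · ext w
    have : w ∈ E.eigenspace a := h ▸ Submodule.mem_top
    simpa using Module.End.mem_eigenspace_iff.1 this

/-- An irreducible twisted representation: the cosets span all endomorphisms. -/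
theorem IsTwisted.span_eq_top [Nontrivial W] (h : IsTwisted Z ρ)
    (hirr : ∀ U : Submodule k W, (∀ x, ∀ u ∈ U, ρ x u ∈ U) → U = ⊥ ∨ U = ⊤)
    (hn : (Z.index : k) ≠ 0) :
    ⊤ ≤ Submodule.span k (Set.range (B ρ : Q ⧸ Z → Module.End k W)) := by
  classical
  have := Fintype.ofFinite (Q ⧸ Z)
  have key : ∀ (φ : W →ₗ[k] k) (w v : W),
      (finrank k W : k) • ∑ q : Q ⧸ Z, φ (ρ q.out⁻¹ v) • B ρ q w =
        ((Z.index : k) * φ w) • v := by
    intro φ w v
    let f : Module.End k W := φ.smulRight w
    obtain ⟨a, ha⟩ := exists_eq_smul_one hirr _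
      (fun x => h.sum_conj_comm f (MonoidHom.id Q) (fun z _ => rfl) x)
    have htr := congrArg (LinearMap.trace k W) ha
    rw [map_sum, map_smul, LinearMap.trace_one] at htr
    have htr' : ∀ q : Q ⧸ Z,
        LinearMap.trace k W (ρ (MonoidHom.id Q q.out) * f * ρ q.out⁻¹) = φ w := fun q => by
      rw [LinearMap.trace_mul_comm, ← mul_assoc, MonoidHom.id_apply, rho_inv_mul, one_mul]
      exact LinearMap.trace_smulRight φ w
    simp only [htr', Finset.sum_const, Finset.card_univ, ← Nat.card_eq_fintype_card,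
      ← Subgroup.index_eq_card, nsmul_eq_mul, smul_eq_mul] at htr
    rw [htr, mul_comm, mul_smul]
    congr 1
    have e := LinearMap.congr_fun ha v
    simp only [LinearMap.sum_apply, MonoidHom.id_apply, Module.End.mul_apply,
      LinearMap.smul_apply, Module.End.one_apply] at e
    rw [← e]
    refine Finset.sum_congr rfl fun q _ => ?_
    simp [f, B]
  intro g _
  obtain ⟨ι, ⟨b⟩⟩ : ∃ ι : Type _, Nonempty (Basis ι k W) := ⟨_, ⟨Module.Free.chooseBasis k W⟩⟩
  have := FiniteDimensional.fintypeBasisIndex b
  have hd : (finrank k W : k) ≠ 0 := by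
    intro h0
    obtain ⟨i⟩ := b.index_nonempty
    have h1 := key (b.coord i) (b i) (b i)
    rw [h0, zero_smul, Basis.coord_apply, Basis.repr_self, Finsupp.single_eq_same, mul_one] at h1
    exact b.ne_zero i ((smul_eq_zero.1 h1.symm).resolve_left hn)
  have hrk1 : ∀ (φ : W →ₗ[k] k) (v : W),
      φ.smulRight v ∈ Submodule.span k (Set.range (B ρ : Q ⧸ Z → Module.End k W)) := by
    intro φ v
    have : (Z.index : k) • φ.smulRight v =
        (finrank k W : k) • ∑ q : Q ⧸ Z, φ (ρ q.out⁻¹ v) • B ρ q := by
      ext w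
      simp only [LinearMap.smul_apply, LinearMap.smulRight_apply, LinearMap.sum_apply]
      rw [key φ w v, mul_smul]
    rw [← one_smul k (φ.smulRight v), ← inv_mul_cancel₀ hn, mul_smul, this]
    exact Submodule.smul_mem _ _ (Submodule.smul_mem _ _
      (Submodule.sum_mem _ fun q _ => Submodule.smul_mem _ _ (Submodule.subset_span ⟨q, rfl⟩)))
  have hg : g = ∑ i, (b.coord i).smulRight (g (b i)) := b.ext fun j => by
    simp [LinearMap.sum_apply, Finsupp.single_apply]
  rw [hg]
  exact Submodule.sum_mem _ fun i _ => hrk1 _ _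

/-- A representation restricted to an invariant submodule. -/
def subRep (ρ : Q →* Module.End k W) (U : Submodule k W) (hU : ∀ x, ∀ u ∈ U, ρ x u ∈ U) :
    Q →* Module.End k U where
  toFun x := (ρ x).restrict (hU x)
  map_one' := LinearMap.ext fun u => Subtype.ext (by simp)
  map_mul' x y := LinearMap.ext fun u => Subtype.ext (by simp)

theorem exists_minimal_invariant [Nontrivial W] (ρ : Q →* Module.End k W) :
    ∃ U : Submodule k W, U ≠ ⊥ ∧ (∀ x, ∀ u ∈ U, ρ x u ∈ U) ∧
      ∀ U' : Submodule k W, U' ≤ U → (∀ x, ∀ u ∈ U', ρ x u ∈ U') → U' = ⊥ ∨ U' = U := by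
  obtain ⟨U, ⟨h1, h2⟩, hmin⟩ := wellFounded_lt.has_min
    {U : Submodule k W | U ≠ ⊥ ∧ ∀ x, ∀ u ∈ U, ρ x u ∈ U}
    ⟨⊤, top_ne_bot, fun _ _ _ => trivial⟩
  refine ⟨U, h1, h2, fun U' hle hinv => ?_⟩
  by_cases hb : U' = ⊥
  · exact Or.inl hb
  · exact Or.inr (eq_of_le_of_not_lt hle (hmin U' ⟨hb, hinv⟩))

/-- The core lemma. -/
theorem index_eq_one_or [Nontrivial W] (h : IsTwisted Z ρ) {r : ℕ} (hr : r.Prime)
    (σ : Module.End k W) (hσr : σ ^ r = 1) (hσ : ∀ v, σ v = v → v = 0)
    (α : MulAut Q) (hcompat : ∀ x, σ * ρ x = ρ (α x) * σ) (hαr : α ^ r = 1)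
    (hαZ : ∀ z ∈ Z, α z = z) (hfpf : ∀ x, x⁻¹ * α x ∈ Z → x ∈ Z)
    (hrk : (r : k) ≠ 0) (hnk : (Z.index : k) ≠ 0) :
    Z.index = 1 ∨ Z.index = (r - 1) ^ 2 := by
  classical
  have := Fintype.ofFinite (Q ⧸ Z)
  obtain ⟨U, hU0, hUinv, hUmin⟩ := exists_minimal_invariant ρ
  have : Nontrivial U := (Submodule.nontrivial_iff_ne_bot).2 hU0
  let ρ₀ := subRep ρ U hUinv
  have hirr : ∀ U' : Submodule k U, (∀ x, ∀ u ∈ U', ρ₀ x u ∈ U') → U' = ⊥ ∨ U' = ⊤ := by
    intro U' hU'
    rcases hUmin (U'.map U.subtype) (Submodule.map_subtype_le _ _) (by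
        rintro x _ ⟨u, hu, rfl⟩
        exact ⟨ρ₀ x u, hU' x u hu, rfl⟩) with h1 | h1
    · exact Or.inl (Submodule.map_injective_of_injective U.injective_subtype
        (by rw [h1, Submodule.map_bot]))
    · exact Or.inr (Submodule.map_injective_of_injective U.injective_subtype
        (by rw [h1, Submodule.map_subtype_top]))
  have h₀ : IsTwisted Z ρ₀ := by
    refine ⟨fun z hz => ?_, fun x y => ?_, fun x hx => ?_⟩
    · obtain ⟨a, ha⟩ := h.scal z hz
      exact ⟨a, LinearMap.ext fun u => Subtype.ext (LinearMap.congr_fun ha (u : W))⟩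
    · obtain ⟨a, ha⟩ := h.comm x y
      exact ⟨a, LinearMap.ext fun u => Subtype.ext (LinearMap.congr_fun ha (u : W))⟩
    · obtain ⟨y, hy⟩ := h.nondeg x hx
      obtain ⟨a, ha⟩ := h.comm x y
      obtain ⟨u, hu⟩ := exists_ne (0 : U)
      refine ⟨y, fun e => hy ?_⟩
      have e2 : ∀ w : W, (ρ x * ρ y) w = 0 → w = 0 := fun w hw => by
        have := congrArg (ρ y⁻¹ * ρ x⁻¹) hw
        rwa [map_zero, ← Module.End.mul_apply, ← map_mul, ← map_mul, ← map_mul,
          show y⁻¹ * x⁻¹ * (x * y) = 1 by group, map_one] at this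
      have e3 : (a - 1) • (ρ x * ρ y) (u : W) = 0 := by
        rw [sub_smul, one_smul, ← LinearMap.smul_apply, ← ha, sub_eq_zero]
        exact congrArg Subtype.val (LinearMap.congr_fun e u)
      rcases smul_eq_zero.1 e3 with h1 | h1
      · rw [ha, sub_eq_zero.1 h1, one_smul]
      · exact absurd (Subtype.ext (e2 _ h1)) hu
  let b₀ : Basis (Q ⧸ Z) k (Module.End k U) :=
    Basis.mk h₀.linearIndependent (h₀.span_eq_top hirr hnk)
  have hb₀ : ∀ q, b₀ q = B ρ₀ q := fun q => by simp [b₀]
  have hdd : finrank k U * finrank k U = Z.index := by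
    rw [← Module.finrank_linearMap k k U U, Module.finrank_eq_card_basis b₀,
      ← Nat.card_eq_fintype_card, Subgroup.index_eq_card]
  set d := finrank k U with hd
  -- the extension of `ρ₀` to all endomorphisms, inside `W`
  let Φ : Module.End k U →ₗ[k] Module.End k W := b₀.constr k (B ρ)
  have hΦρ : ∀ x, Φ (ρ₀ x) = ρ x := by
    intro x
    obtain ⟨a, -, ha⟩ := h.exists_smul x
    have ha₀ : ρ₀ x = a • B ρ₀ (QuotientGroup.mk (s := Z) x) :=
      LinearMap.ext fun u => Subtype.ext (LinearMap.congr_fun ha (u : W))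
    rw [ha₀, map_smul, ← hb₀, Basis.constr_basis, ha]
  have hΦmul : ∀ f g, Φ (f * g) = Φ f * Φ g := by
    intro f g
    have hbase : ∀ q q', Φ (b₀ q * b₀ q') = Φ (b₀ q) * Φ (b₀ q') := fun q q' => by
      rw [hb₀, hb₀]
      simp only [B]
      rw [← map_mul, hΦρ, hΦρ, hΦρ, map_mul]
    conv_lhs => rw [← b₀.sum_repr f, ← b₀.sum_repr g]
    conv_rhs => rw [← b₀.sum_repr f, ← b₀.sum_repr g]
    simp only [map_sum, map_smul, Finset.sum_mul, Finset.mul_sum, smul_mul_assoc, mul_smul_comm,
      hbase]
  have hΦ1 : Φ 1 = 1 := by rw [← map_one ρ₀, hΦρ, map_one]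
  have hΦpow : ∀ f (n : ℕ), Φ (f ^ n) = Φ f ^ n := fun f n => by
    induction n with
    | zero => rw [pow_zero, pow_zero, hΦ1]
    | succ n ih => rw [pow_succ, pow_succ, hΦmul, ih]
  -- the intertwiner
  obtain ⟨f, hf⟩ : ∃ f : Module.End k U,
      ∑ q : Q ⧸ Z, ρ₀ (α q.out) * f * ρ₀ q.out⁻¹ ≠ 0 := by
    by_contra hall
    push Not at hall
    obtain ⟨u, hu⟩ := exists_ne (0 : U)
    obtain ⟨φ, hφ⟩ := Module.Projective.exists_dual_ne_zero k hu
    -- independence of the twisted family
    have hind : LinearIndependent k (fun q : Q ⧸ Z => ρ₀ (α q.out)) := by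
      have := h₀.linearIndependent
      let π : Q ⧸ Z → Q ⧸ Z := fun q => QuotientGroup.mk (α q.out)
      choose a ha0 ha using fun q : Q ⧸ Z => h₀.exists_smul (α q.out)
      have hπ : Function.Injective π := by
        intro q q' hqq
        have h1 : (α q.out)⁻¹ * α q'.out ∈ Z := QuotientGroup.eq.1 hqq
        rw [← map_inv, ← map_mul] at h1
        have h2 : q.out⁻¹ * q'.out = α (q.out⁻¹ * q'.out) :=
          α.injective (hαZ _ h1).symm
        rw [← QuotientGroup.out_eq' q, ← QuotientGroup.out_eq' q', QuotientGroup.eq, h2]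
        exact h1
      convert (this.comp π hπ).units_smul (fun q => Units.mk0 (a q) (ha0 q)) using 1
      funext q
      exact ha q
    have h1 : ∀ v : U, (∑ q : Q ⧸ Z, φ (ρ₀ q.out⁻¹ v) • ρ₀ (α q.out)) = 0 := by
      intro v
      refine LinearMap.ext fun w => ?_
      have := LinearMap.congr_fun (hall (φ.smulRight w)) v
      simpa [LinearMap.sum_apply] using this
    let q₁ : Q ⧸ Z := QuotientGroup.mk (1 : Q)
    have h2 := Fintype.linearIndependent_iff.1 hind _ (h1 (ρ₀ q₁.out u)) q₁
    rw [← Module.End.mul_apply, rho_inv_mul, Module.End.one_apply] at h2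
    exact hφ h2
  set S := ∑ q : Q ⧸ Z, ρ₀ (α q.out) * f * ρ₀ q.out⁻¹ with hS
  have hSint : ∀ x, ρ₀ (α x) * S = S * ρ₀ x := fun x =>
    h₀.sum_conj_comm f α.toMonoidHom hαZ x
  have hSinj : Function.Injective S := by
    rw [← LinearMap.ker_eq_bot]
    refine (hirr _ fun x u hu => ?_).resolve_right fun ht => hf (LinearMap.ker_eq_top.1 ht)
    rw [LinearMap.mem_ker] at hu ⊢
    rw [← Module.End.mul_apply, ← hSint, Module.End.mul_apply, hu, map_zero]
  have hSpow : ∀ (j : ℕ) (x : Q), ρ₀ ((α ^ j) x) * S ^ j = S ^ j * ρ₀ x := by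
    intro j
    induction j with
    | zero => intro x; simp
    | succ j ih =>
        intro x
        rw [pow_succ', pow_succ' S, MulAut.mul_apply, ← mul_assoc, hSint, mul_assoc, ih,
          mul_assoc]
  obtain ⟨a, ha⟩ := exists_eq_smul_one hirr (S ^ r) (fun x => by
    have := hSpow r x
    rwa [hαr, MulAut.one_apply] at this)
  have ha0 : a ≠ 0 := by
    rintro rfl
    obtain ⟨u, hu⟩ := exists_ne (0 : U)
    refine hu ((Module.End.iterate_injective hSinj r) ?_)
    simp [ha]
  obtain ⟨a', ha'⟩ := IsAlgClosed.exists_pow_nat_eq a hr.pos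
  have ha'0 : a' ≠ 0 := by rintro rfl; exact ha0 (by rw [← ha', zero_pow hr.ne_zero])
  let s : Module.End k U := a'⁻¹ • S
  have hsr : s ^ r = 1 := by
    rw [smul_pow, ha, smul_smul, inv_pow, ha', inv_mul_cancel₀ ha0, one_smul]
  have hsint : ∀ x, ρ₀ (α x) * s = s * ρ₀ x := fun x => by
    simp only [s, mul_smul_comm, smul_mul_assoc, hSint]
  -- `σ = Φ s * τ`
  let S' : Module.End k W := Φ s
  have hS'r : S' ^ r = 1 := by rw [← hΦpow, hsr, hΦ1]
  have hS'int : ∀ x, ρ (α x) * S' = S' * ρ x := fun x => by
    rw [← hΦρ, ← hΦρ, ← hΦmul, hsint, hΦmul]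
  obtain ⟨r', hr'⟩ : ∃ r', r = r' + 1 := ⟨r - 1, by have := hr.pos; omega⟩
  let τ : Module.End k W := S' ^ r' * σ
  have hτρ : ∀ x, τ * ρ x = ρ x * τ := by
    intro x
    have hpow : ∀ (j : ℕ) y, ρ ((α ^ j) y) * S' ^ j = S' ^ j * ρ y := by
      intro j
      induction j with
      | zero => intro y; simp
      | succ j ih =>
          intro y
          rw [pow_succ', pow_succ' S', MulAut.mul_apply, ← mul_assoc, hS'int, mul_assoc, ih,
            mul_assoc]
    have h1 : (α ^ r') (α x) = x := by
      rw [← MulAut.mul_apply, ← pow_succ, ← hr', hαr, MulAut.one_apply]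
    calc τ * ρ x = S' ^ r' * (σ * ρ x) := mul_assoc _ _ _
      _ = S' ^ r' * ρ (α x) * σ := by rw [hcompat, mul_assoc]
      _ = ρ ((α ^ r') (α x)) * (S' ^ r' * σ) := by rw [← hpow, mul_assoc]
      _ = ρ x * τ := by rw [h1]
  have hτΦ : ∀ g, τ * Φ g = Φ g * τ := by
    intro g
    rw [← b₀.sum_repr g]
    simp only [map_sum, map_smul, Finset.mul_sum, Finset.sum_mul, mul_smul_comm, smul_mul_assoc,
      hb₀]
    refine Finset.sum_congr rfl fun q _ => ?_
    simp only [B]
    rw [hΦρ, hτρ]
  have hστ : σ = S' * τ := by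
    rw [← mul_assoc, ← pow_succ', ← hr', hS'r, one_mul]
  have hτr : τ ^ r = 1 := by
    have h1 : Commute S' τ := (hτΦ s).symm
    have h2 := hσr
    rw [hστ, h1.mul_pow, hS'r, one_mul] at h2
    exact h2
  obtain ⟨c, hc⟩ := τ.exists_eigenvalue
  obtain ⟨v₁, hv₁⟩ := hc.exists_hasEigenvector
  have hcr : c ^ r = 1 := by
    have h1 : (τ ^ r) v₁ = c ^ r • v₁ := Module.End.HasEigenvector.pow_apply hv₁ r
    rw [hτr, Module.End.one_apply] at h1
    by_contra hne
    have h2 : (c ^ r - 1) • v₁ = 0 := by rw [sub_smul, ← h1, one_smul, sub_self]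
    exact hv₁.2 ((smul_eq_zero.1 h2).resolve_left (sub_ne_zero.2 hne))
  have hc0 : c ≠ 0 := by rintro rfl; rw [zero_pow hr.ne_zero] at hcr; exact zero_ne_one hcr
  let t : Module.End k U := c • s
  have htr : t ^ r = 1 := by rw [smul_pow, hsr, hcr, one_smul]
  -- `t` has no fixed vector
  have ht1 : ∀ u, t u = u → u = 0 := by
    intro u hu
    let P : Module.End k U := ∑ j ∈ Finset.range r, t ^ j
    have hPu : P u = (r : k) • u := by
      have : ∀ j : ℕ, (t ^ j) u = u := fun j => by
        induction j with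
        | zero => simp
        | succ j ih => rw [pow_succ, Module.End.mul_apply, hu, ih]
      simp [P, this, Nat.cast_smul_eq_nsmul]
    have hEinv : ∀ x, ∀ w ∈ τ.eigenspace c, ρ x w ∈ τ.eigenspace c := fun x w hw => by
      rw [Module.End.mem_eigenspace_iff] at hw ⊢
      rw [← Module.End.mul_apply, hτρ, Module.End.mul_apply, hw, map_smul]
    have hΦP : ∀ w ∈ τ.eigenspace c, Φ P w = 0 := by
      intro w hw
      have hσw : ∀ (j : ℕ) (w : W), w ∈ τ.eigenspace c → (σ ^ j) w = Φ (t ^ j) w := by
        intro j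
        induction j with
        | zero => intro w _; simp [hΦ1]
        | succ j ih =>
            intro w hw
            rw [pow_succ, pow_succ, Module.End.mul_apply, hΦmul, Module.End.mul_apply]
            have e : σ w = Φ t w := by
              rw [hστ, Module.End.mul_apply, Module.End.mem_eigenspace_iff.1 hw, map_smul,
                map_smul]
              rfl
            rw [e]
            refine ih _ ?_
            rw [Module.End.mem_eigenspace_iff] at hw ⊢
            rw [← Module.End.mul_apply, hτΦ, Module.End.mul_apply, hw, map_smul]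
      refine hσ _ ?_
      have eP : Φ P w = ∑ j ∈ Finset.range r, (σ ^ j) w := by
        simp only [P, map_sum, LinearMap.sum_apply]
        exact Finset.sum_congr rfl fun j _ => (hσw j w hw).symm
      rw [eP, map_sum]
      have h2 := Finset.sum_range_succ' (fun j => (σ ^ j) w) r
      rw [Finset.sum_range_succ, hσr, pow_zero] at h2
      simp only [pow_succ', Module.End.mul_apply] at h2
      exact (add_right_cancel h2).symm
    -- restrict to the eigenspace
    have : Nontrivial (τ.eigenspace c) := Submodule.nontrivial_iff_ne_bot.2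
      (Module.End.hasEigenvalue_iff.1 hc)
    let ρE := subRep ρ (τ.eigenspace c) hEinv
    have hE : IsTwisted Z ρE := by
      refine ⟨fun z hz => ?_, fun x y => ?_, fun x hx => ?_⟩
      · obtain ⟨a, ha⟩ := h.scal z hz
        exact ⟨a, LinearMap.ext fun u => Subtype.ext (LinearMap.congr_fun ha (u : W))⟩
      · obtain ⟨a, ha⟩ := h.comm x y
        exact ⟨a, LinearMap.ext fun u => Subtype.ext (LinearMap.congr_fun ha (u : W))⟩
      · obtain ⟨y, hy⟩ := h₀.nondeg x hx
        obtain ⟨a, ha⟩ := h.comm x y
        refine ⟨y, fun e => hy ?_⟩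
        have ha1 : (a - 1) • (ρE x * ρE y) = 0 := by
          refine (sub_smul a 1 (ρE x * ρE y)).trans ?_
          refine sub_eq_zero.2 ((?_ : _ = ρE x * ρE y).trans (one_smul k _).symm)
          conv_rhs => rw [← e]
          exact LinearMap.ext fun u => Subtype.ext (LinearMap.congr_fun ha (u : W)).symm
        rcases smul_eq_zero.1 ha1 with h1 | h1
        · refine LinearMap.ext fun u => Subtype.ext ?_
          have := LinearMap.congr_fun ha (u : W)
          rw [sub_eq_zero.1 h1, one_smul] at this
          exact this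
        · rw [← map_mul] at h1; exact absurd h1 (rho_ne_zero _)
    have hP0 : P = 0 := by
      rw [← b₀.sum_repr P]
      refine Finset.sum_eq_zero fun q _ => ?_
      have h1 : ∑ q, b₀.repr P q • B ρE q = 0 := by
        refine LinearMap.ext fun w => Subtype.ext ?_
        have h2 := hΦP w w.2
        rw [← b₀.sum_repr P] at h2
        simp only [map_sum, map_smul, LinearMap.sum_apply, LinearMap.smul_apply,
          Basis.constr_basis, Φ] at h2
        simpa [LinearMap.sum_apply, B, ρE, subRep] using h2
      rw [Fintype.linearIndependent_iff.1 hE.linearIndependent _ h1 q, zero_smul]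
    rw [hP0, LinearMap.zero_apply] at hPu
    exact (smul_eq_zero.1 hPu.symm).resolve_left hrk
  -- the orbit count
  have htint : ∀ x, t * ρ₀ x = ρ₀ (α x) * t := fun x => by
    simp only [t, smul_mul_assoc, mul_smul_comm, hsint]
  obtain ⟨t', ht'⟩ : ∃ t', t' * t = 1 ∧ t * t' = 1 :=
    ⟨t ^ r', by rw [← pow_succ, ← hr', htr], by rw [← pow_succ', ← hr', htr]⟩
  let T : Module.End k U →ₗ[k] Module.End k U :=
    (LinearMap.mulLeft k t).comp (LinearMap.mulRight k t')
  have hT : ∀ g, T g = t * g * t' := fun g => (mul_assoc _ _ _).symm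
  have hTρ : ∀ x, T (ρ₀ x) = ρ₀ (α x) := fun x => by
    rw [hT, htint, mul_assoc, ht'.2, mul_one]
  have hTr : T ^ r = 1 := by
    have hTj : ∀ (j : ℕ) g, (T ^ j) g = t ^ j * g * t' ^ j := by
      intro j
      induction j with
      | zero => intro g; simp
      | succ j ih =>
          intro g
          rw [pow_succ', Module.End.mul_apply, hT, ih, pow_succ', pow_succ]
          noncomm_ring
    refine LinearMap.ext fun g => ?_
    have hc' : t' ^ r = 1 := by
      have h2 : t' ^ r * t ^ r = 1 := by
        rw [← (show Commute t' t from ht'.1.trans ht'.2.symm).mul_pow, ht'.1, one_pow]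
      rwa [htr, mul_one] at h2
    rw [hTj, htr, hc', one_mul, mul_one, Module.End.one_apply]
  choose cq hcq0 hcq using fun q : Q ⧸ Z => h₀.exists_smul (α q.out)
  have horb := finrank_fixed_monomial hr b₀ T hTr (fun q => QuotientGroup.mk (α q.out)) cq hcq0
    (fun q => by rw [hb₀, hb₀, ← hcq]; exact hTρ _) (QuotientGroup.mk 1) ?_ ?_
  rotate_left
  · rw [hb₀]
    have hz : (QuotientGroup.mk (s := Z) (1 : Q)).out ∈ Z := by
      have := QuotientGroup.eq.1 (QuotientGroup.out_eq' (QuotientGroup.mk (s := Z) (1 : Q)))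
      simpa using Z.inv_mem this
    exact (hTρ _).trans (by rw [hαZ _ hz]; rfl)
  · intro q hq
    have h1 : q.out⁻¹ * α q.out ∈ Z := by
      have := QuotientGroup.eq.1 (hq.trans (QuotientGroup.out_eq' q).symm)
      simpa [mul_inv_rev] using Z.inv_mem this
    rw [← QuotientGroup.out_eq' q, QuotientGroup.eq, mul_one]
    exact Z.inv_mem (hfpf _ h1)
  have heq : LinearMap.eqLocus T LinearMap.id = commutant t := by
    ext g
    rw [LinearMap.mem_eqLocus, LinearMap.id_apply, hT, mem_commutant]
    constructor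
    · intro hg
      conv_lhs => rw [← hg, mul_assoc, ht'.1, mul_one]
    · intro hg
      rw [← hg, mul_assoc, ht'.2, mul_one]
  rw [heq, ← Subgroup.index_eq_card, ← hdd] at horb
  -- an eigenbasis of `t`
  have hss : t.IsSemisimple := by
    refine Module.End.isSemisimple_of_squarefree_aeval_eq_zero
      (p := (Polynomial.X ^ r - 1 : Polynomial k)) ?_ ?_
    · exact (Polynomial.X_pow_sub_one_separable_iff.mpr hrk).squarefree
    · simp [htr]
  have hint := DirectSum.isInternal_submodule_of_iSupIndep_of_iSup_eq_top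
    (Module.End.eigenspaces_iSupIndep t) hss.iSup_eigenspace_eq_top
  let bs := hint.collectedBasis fun μ => Module.Free.chooseBasis k (t.eigenspace μ)
  have := FiniteDimensional.fintypeBasisIndex bs
  have hbs : ∀ i, t (bs i) = i.1 • bs i := fun i =>
    Module.End.mem_eigenspace_iff.1 (hint.collectedBasis_mem _ i)
  rw [finrank_commutant bs hbs] at horb
  let ev : ((μ : k) × Module.Free.ChooseBasisIndex k (t.eigenspace μ)) → k := fun i => i.1
  obtain ⟨hle, hko⟩ := card_sq_le ev
  rw [← Module.finrank_eq_card_basis bs, ← hd] at hle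
  have hkd : (Finset.univ.image ev).card ≤ d := by
    rw [hd, Module.finrank_eq_card_basis bs]
    exact card_image_le_card _
  set K := (Finset.univ.image ev) with hK
  have hK1 : 1 ≤ K.card := by
    refine Finset.card_pos.2 (Finset.Nonempty.image ?_ _)
    rw [Finset.univ_nonempty_iff]
    exact bs.index_nonempty
  have hKr : K.card < r := by
    have hsub : K ⊆ (Polynomial.nthRootsFinset r (1 : k)).erase 1 := by
      intro μ hμ
      obtain ⟨i, -, rfl⟩ := Finset.mem_image.1 hμ
      rw [Finset.mem_erase, Polynomial.mem_nthRootsFinset hr.pos]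
      refine ⟨fun h1 => bs.ne_zero i (ht1 _ (by rw [hbs]; change ev i • bs i = bs i; rw [h1, one_smul])), ?_⟩
      have h1 := Module.End.HasEigenvector.pow_apply (μ := i.1)
        ⟨hint.collectedBasis_mem _ i, bs.ne_zero i⟩ r
      rw [htr, Module.End.one_apply] at h1
      by_contra hne
      have h2 : (i.1 ^ r - 1) • bs i = 0 := by rw [sub_smul, ← h1, one_smul, sub_self]
      exact bs.ne_zero i ((smul_eq_zero.1 h2).resolve_left (sub_ne_zero.2 hne))
    refine lt_of_le_of_lt (Finset.card_le_card hsub) ?_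
    have h1 : (1 : k) ∈ Polynomial.nthRootsFinset r (1 : k) := by
      rw [Polynomial.mem_nthRootsFinset hr.pos, one_pow]
    refine lt_of_lt_of_le (Finset.card_erase_lt_of_mem h1) ?_
    rw [Polynomial.nthRootsFinset_def]
    exact (Multiset.toFinset_card_le _).trans (Polynomial.card_nthRoots r 1)
  rcases count_arith hKr hK1 hko hkd hle horb with h1 | h1
  · exact Or.inl (hdd ▸ h1)
  · exact Or.inr (by rw [← hdd, h1, sq])

end Core

end Cfsg.Agent.Lib.Shult
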